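import Cfsg.Agent.BlockChar.Support
import Cfsg.Agent.BlockChar.PLengthOne
import Cfsg.Agent.BlockThms.NormalCor
import Cfsg.Agent.Blocks.Congr
import Cfsg.Agent.Char.Gen
import Cfsg.Agent.Char.Zero
import Cfsg.Agent.Blocks.WeakOrth
import Cfsg.Prelude.Def_CaseTheorems

/-!
# Tools for principal two-blocks with a constant drop from the degree

Congruence criteria for the principal block when the centraliser of a Sylow subgroup is small,
splitting of a character along a normal subgroup, and odd parts of two-nilpotent subgroups.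
-/

set_option autoImplicit false

namespace Cfsg.Agent.EqualDrop

open scoped ComplexConjugate
open scoped _root_.Classical
open Cfsg Cfsg.Agent Cfsg.Agent.Blocks Subgroup

universe u

section Groups

variable {G : Type u} [Group G] [Finite G]

theorem odd_iff_not_dvd {g : G} : Odd (orderOf g) ↔ ¬ 2 ∣ orderOf g := by
  rw [Nat.odd_iff, Nat.dvd_iff_mod_eq_zero]
  omega

/-- The elements of odd order of a subgroup with a normal two-complement form a subgroup. -/
theorem exists_oddPart (H : Subgroup G) (h : Cfsg.HasNormalPComplement 2 H) :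
    ∃ K : Subgroup G, (∀ a, a ∈ K ↔ a ∈ H ∧ Odd (orderOf a)) ∧ Odd (Nat.card K) ∧
      ∀ P : Subgroup G, P ≤ H → (Nat.card H).factorization 2 = (Nat.card P).factorization 2 →
        H ≤ K ⊔ P := by
  have : Fact (Nat.Prime 2) := ⟨Nat.prime_two⟩
  obtain ⟨P₀, N, hN, hc⟩ := h
  have hidx : N.index = Nat.card P₀ := hc.symm.index_eq_card
  have hcop : ¬ 2 ∣ Nat.card N := by
    have h1 := P₀.not_dvd_index
    rwa [hc.index_eq_card] at h1
  obtain ⟨k, hk⟩ := IsPGroup.iff_card.1 P₀.2
  have hmem : ∀ a, a ∈ N.map H.subtype ↔ a ∈ H ∧ Odd (orderOf a) := by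
    intro a
    constructor
    · rintro ⟨b, hb, rfl⟩
      refine ⟨b.2, odd_iff_not_dvd.2 fun hd => hcop (hd.trans ?_)⟩
      rw [Subgroup.coe_subtype, Subgroup.orderOf_coe]
      exact Subgroup.orderOf_dvd_natCard N hb
    · rintro ⟨ha, hodd⟩
      refine ⟨⟨a, ha⟩, ?_, rfl⟩
      have h1 := N.pow_index_mem (⟨a, ha⟩ : H)
      rw [hidx, hk] at h1
      obtain ⟨m, hm⟩ := exists_pow_eq_self_of_coprime (n := 2 ^ k) (x := (⟨a, ha⟩ : H)) (by
        rw [Subgroup.orderOf_mk]
        exact (Nat.coprime_two_left.2 hodd).pow_left k)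
      rw [SetLike.mem_coe, ← hm]
      exact pow_mem h1 m
  have hcardK : Nat.card (N.map H.subtype) = Nat.card N :=
    card_map_of_injective H.subtype_injective
  refine ⟨N.map H.subtype, hmem, ?_, fun P hPH hfac => ?_⟩
  · rw [hcardK, Nat.odd_iff]
    omega
  set K := N.map H.subtype with hK
  have hle : K ⊔ P ≤ H := sup_le (fun a ha => ((hmem a).1 ha).1) hPH
  refine (Subgroup.eq_of_le_of_card_ge hle (Nat.le_of_dvd Nat.card_pos ?_)).ge
  have hH : Nat.card H = Nat.card N * 2 ^ k := by rw [← hc.card_mul_card, hk]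
  have hPd : 2 ^ (Nat.card H).factorization 2 ∣ Nat.card P := hfac ▸ Nat.ordProj_dvd _ _
  have hkH : (Nat.card H).factorization 2 = k := by
    rw [← Nat.pow_right_injective le_rfl |>.eq_iff, ← hk, P₀.card_eq_multiplicity]
  rw [hkH] at hPd
  rw [hH]
  refine (((Nat.prime_two.coprime_iff_not_dvd).2 hcop).symm.pow_right k).mul_dvd_of_dvd_of_dvd
    (hcardK ▸ card_dvd_of_le le_sup_left) (hPd.trans (card_dvd_of_le le_sup_right))

/-- A Sylow subgroup of the whole group inside a subgroup. -/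
theorem factorization_eq_of_le (P : Sylow 2 G) {H : Subgroup G} (hPH : (P : Subgroup G) ≤ H) :
    (Nat.card H).factorization 2 = (Nat.card (P : Subgroup G)).factorization 2 := by
  have : Fact (Nat.Prime 2) := ⟨Nat.prime_two⟩
  refine le_antisymm ?_ ((Nat.factorization_le_iff_dvd Nat.card_pos.ne' Nat.card_pos.ne').2
    (card_dvd_of_le hPH) 2)
  rw [show Nat.card (P : Subgroup G) = 2 ^ (Nat.card G).factorization 2 from P.card_eq_multiplicity,
    Nat.factorization_pow, Finsupp.smul_apply, Nat.Prime.factorization_self Nat.prime_two,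
    smul_eq_mul, mul_one]
  exact (Nat.factorization_le_iff_dvd Nat.card_pos.ne' Nat.card_pos.ne').2 (card_subgroup_dvd_card H) 2

/-- A subgroup normalising the Sylow subgroup without elements of odd prime order lies in it. -/
theorem le_of_le_normalizer (P : Sylow 2 G) {H : Subgroup G}
    (hH : H ≤ normalizer ((P : Subgroup G) : Set G))
    (h : ∀ g ∈ H, ∀ r : ℕ, r.Prime → Odd r → orderOf g ≠ r) : H ≤ P := by
  have : Fact (Nat.Prime 2) := ⟨Nat.prime_two⟩
  have hp : IsPGroup 2 H := by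
    refine IsPGroup.of_card (n := (Nat.card H).factorization 2) (Eq.symm ?_)
    refine Nat.eq_of_dvd_of_div_eq_one (Nat.ordProj_dvd _ _) ?_
    by_contra hne
    obtain ⟨r, hr, hrd⟩ := Nat.exists_prime_and_dvd hne
    have := Fact.mk hr
    obtain ⟨g, hg⟩ := exists_prime_orderOf_dvd_card' (G := H) r (hrd.trans (Nat.ordCompl_dvd _ _))
    refine h g g.2 r hr (hr.odd_of_ne_two fun e => ?_) (by rw [Subgroup.orderOf_coe, hg])
    exact Nat.not_dvd_ordCompl Nat.prime_two Nat.card_pos.ne' (e ▸ hrd)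
  have h1 : IsPGroup 2 (H ⊔ (P : Subgroup G) : Subgroup G) :=
    hp.to_sup_of_normal_right' P.isPGroup' hH
  exact le_sup_left.trans (P.is_maximal' h1 le_sup_right).le

/-- The centraliser is the Sylow subgroup as soon as the odd part is trivial. -/
theorem exists_conj_mem_centralizer (P : Sylow 2 G) {g : G}
    (hg : ¬ 2 ∣ (centralizer ({g} : Set G)).index) :
    ∃ y : G, y * g * y⁻¹ ∈ centralizer ((P : Subgroup G) : Set G) := by
  have : Fact (Nat.Prime 2) := ⟨Nat.prime_two⟩
  let Q : Sylow 2 (centralizer ({g} : Set G)) := default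
  have hQ : IsPGroup 2 ((Q : Subgroup (centralizer ({g} : Set G))).map (centralizer ({g} : Set G)).subtype) :=
    Q.isPGroup'.map _
  obtain ⟨R, hR⟩ := hQ.exists_le_sylow
  have hRQ : (R : Subgroup G) ≤ centralizer ({g} : Set G) := by
    refine (Subgroup.eq_of_le_of_card_ge hR ?_).ge.trans (map_subtype_le _)
    rw [card_map_of_injective (Subgroup.subtype_injective _), Q.card_eq_multiplicity,
      R.card_eq_multiplicity]
    refine Nat.pow_le_pow_right two_pos (le_of_eq ?_)
    conv_lhs => rw [← (centralizer ({g} : Set G)).card_mul_index]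
    rw [Nat.factorization_mul Nat.card_pos.ne' Subgroup.index_ne_zero_of_finite, Finsupp.add_apply,
      Nat.factorization_eq_zero_of_not_dvd hg, add_zero]
  obtain ⟨y, hy⟩ := MulAction.exists_smul_eq G R P
  refine ⟨y, mem_centralizer_iff.2 fun a ha => ?_⟩
  rw [← hy] at ha
  rw [Sylow.smul_def, Sylow.pointwise_smul_def, SetLike.mem_coe,
    Subgroup.mem_pointwise_smul_iff_inv_smul_mem, ← map_inv, MulAut.smul_def, MulAut.conj_apply] at ha
  have h1 := mem_centralizer_singleton_iff.1 (hRQ ha)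
  calc a * (y * g * y⁻¹) = y * (y⁻¹ * a * y⁻¹⁻¹ * g) * y⁻¹ := by group
    _ = y * (g * (y⁻¹ * a * y⁻¹⁻¹)) * y⁻¹ := by rw [h1]
    _ = y * g * y⁻¹ * a := by group

end Groups

section Chars

variable {G : Type u} [Group G] [Fintype G] {M : Ideal Cfsg.AlgInt}

/-- The principal block as a finite set. -/
noncomputable def prinFin (M : Ideal Cfsg.AlgInt) (G : Type u) [Group G] [Fintype G] :
    Finset (IrrCharacter G) :=
  (Set.toFinite (Cfsg.principalBlock M G)).toFinset

theorem mem_prinFin {χ : IrrCharacter G} : χ ∈ prinFin M G ↔ χ ∈ Cfsg.principalBlock M G :=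
  Set.Finite.mem_toFinset _

/-- Its nonprincipal members. -/
noncomputable def prinRest (M : Ideal Cfsg.AlgInt) (G : Type u) [Group G] [Fintype G] :
    Finset (IrrCharacter G) :=
  (prinFin M G).erase (triv G)

theorem mem_prinRest {χ : IrrCharacter G} :
    χ ∈ prinRest M G ↔ χ ∈ Cfsg.principalBlock M G ∧ (χ : G → ℂ) ≠ fun _ => 1 := by
  rw [prinRest, Finset.mem_erase, mem_prinFin, and_comm, ne_eq, Subtype.ext_iff]
  exact Iff.rfl

theorem sum_prinFin (hM : Cfsg.IsPModular 2 M) (f : IrrCharacter G → ℂ) :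
    ∑ χ ∈ prinFin M G, f χ = f (triv G) + ∑ χ ∈ prinRest M G, f χ :=
  (Finset.add_sum_erase _ _ (mem_prinFin.2 (triv_mem_principalBlock hM))).symm

/-- Orthogonality of two sections. -/
theorem orth (hM : Cfsg.IsPModular 2 M) (g h : G)
    (hgh : ¬ IsConj (pPartOf 2 g) (pPartOf 2 h)⁻¹) :
    ∑ χ ∈ prinFin M G, (χ : G → ℂ) g * (χ : G → ℂ) h = 0 := by
  rw [prinFin, ← finsum_mem_eq_finite_toFinset_sum (fun χ : IrrCharacter G =>
    (χ : G → ℂ) g * (χ : G → ℂ) h) (Set.toFinite (Cfsg.principalBlock M G))]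
  exact block_orthogonality hM (isPBlock_principalBlock M) g h hgh

theorem exists_degree (χ : IrrCharacter G) :
    ∃ d : ℕ, 0 < d ∧ (χ : G → ℂ) 1 = d ∧ charDegree (χ : G → ℂ) = d := by
  obtain ⟨d, hd0, hd⟩ := Char.IsIrr.degree χ.2
  exact ⟨d, hd0, hd, Blocks.charDegree_eq hd⟩

theorem degree_eq (χ : IrrCharacter G) : (χ : G → ℂ) 1 = (charDegree (χ : G → ℂ) : ℂ) :=
  (Blocks.charDegree_cast (Char.IsIrr.isCharacter χ.2)).symm

theorem not_memLocalIdeal_degree (hM : Cfsg.IsPModular 2 M) (χ : IrrCharacter G)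
    (hodd : Odd (charDegree (χ : G → ℂ))) : ¬ Cfsg.MemLocalIdeal M ((χ : G → ℂ) 1) := by
  rw [degree_eq, memLocalIdeal_natCast_iff hM]
  exact hodd.not_two_dvd_nat

/-- An odd degree character congruent to its degree near the Sylow subgroup is principal. -/
theorem mem_principal_of_odd (hM : Cfsg.IsPModular 2 M) (P : Sylow 2 G) (χ : IrrCharacter G)
    (hodd : Odd (charDegree (χ : G → ℂ)))
    (hc : ∀ x ∈ centralizer ((P : Subgroup G) : Set G),
      Cfsg.MemLocalIdeal M ((χ : G → ℂ) x - (χ : G → ℂ) 1)) :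
    χ ∈ Cfsg.principalBlock M G := by
  have hχc := Char.IsIrr.isCharacter χ.2
  have h1 := not_memLocalIdeal_degree hM χ hodd
  have hinv : Cfsg.MemLocalRing M ((χ : G → ℂ) 1)⁻¹ :=
    memLocalRing_inv (memLocalRing_char hM hχc 1) h1
  have h0 : (χ : G → ℂ) 1 ≠ 0 := fun e => h1 (by rw [e]; exact memLocalIdeal_zero hM)
  intro g
  set i := (centralizer ({g} : Set G)).index with hi
  have hdiff : Cfsg.centralChar (fun _ => 1) g - Cfsg.centralChar (χ : G → ℂ) g =
      (i : ℂ) * (-((χ : G → ℂ) g - (χ : G → ℂ) 1) * ((χ : G → ℂ) 1)⁻¹) := by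
    simp only [Cfsg.centralChar, ← hi]
    field_simp
    ring
  rw [hdiff]
  by_cases h2 : 2 ∣ i
  · refine memLocalIdeal_mul_right hM ((memLocalIdeal_natCast_iff hM i).2 h2) ?_
    refine (localRing hM).mul_mem ((localRing hM).neg_mem ?_) hinv
    exact (localRing hM).sub_mem (memLocalRing_char hM hχc g) (memLocalRing_char hM hχc 1)
  · obtain ⟨y, hy⟩ := exists_conj_mem_centralizer P h2
    rw [← Char.isClassFunction_of_isIrr χ.2 g y]
    exact memLocalIdeal_mul_left hM (memLocalRing_natCast hM i)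
      (memLocalIdeal_mul_right hM (memLocalIdeal_neg (hc _ hy)) hinv)

/-- A principal character is congruent to its degree near the Sylow subgroup. -/
theorem congr_of_mem_principal (hM : Cfsg.IsPModular 2 M) (P : Sylow 2 G) {χ : IrrCharacter G}
    (hχ : χ ∈ Cfsg.principalBlock M G) {x : G}
    (hx : x ∈ centralizer ((P : Subgroup G) : Set G)) :
    Cfsg.MemLocalIdeal M ((χ : G → ℂ) x - (χ : G → ℂ) 1) := by
  have : Fact (Nat.Prime 2) := ⟨Nat.prime_two⟩
  have hle : (P : Subgroup G) ≤ centralizer ({x} : Set G) := fun a ha =>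
    mem_centralizer_singleton_iff.2 (mem_centralizer_iff.1 hx a ha)
  have hi : ¬ 2 ∣ (centralizer ({x} : Set G)).index := fun h =>
    P.not_dvd_index (h.trans (index_dvd_of_le hle))
  obtain ⟨d, hd0, hd, -⟩ := exists_degree χ
  have hne : (χ : G → ℂ) 1 ≠ 0 := by rw [hd]; exact Nat.cast_ne_zero.2 hd0.ne'
  have h := memLocalIdeal_mul_left hM ((localRing hM).mul_mem (memLocalRing_natCast_inv hM hi)
    (memLocalRing_char hM (Char.IsIrr.isCharacter χ.2) 1)) (hχ x)
  have hi0 : ((centralizer ({x} : Set G)).index : ℂ) ≠ 0 :=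
    Nat.cast_ne_zero.2 Subgroup.index_ne_zero_of_finite
  have e : ((centralizer ({x} : Set G)).index : ℂ)⁻¹ * (χ : G → ℂ) 1 *
      (Cfsg.centralChar (fun _ => 1) x - Cfsg.centralChar (χ : G → ℂ) x) =
      -((χ : G → ℂ) x - (χ : G → ℂ) 1) := by
    simp only [Cfsg.centralChar]
    field_simp
    ring
  rw [e] at h
  simpa using memLocalIdeal_neg h

/-- An irreducible character is trivial on a normal subgroup or sums to zero over each coset. -/
theorem trivial_or_sum_eq_zero (χ : IrrCharacter G) (N : Subgroup G) [N.Normal] :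
    (∀ n ∈ N, (χ : G → ℂ) n = (χ : G → ℂ) 1) ∨ ∀ y : G, ∑ n : N, (χ : G → ℂ) ((n : G) * y) = 0 := by
  by_cases h : Cfsg.classInner (fun n : N => (χ : G → ℂ) n) (fun _ => 1) = 0
  · right
    intro y
    obtain ⟨d, ρ, hρ, hχ⟩ := χ.2
    rw [← hχ]
    let T : Module.End ℂ (Fin d → ℂ) := ∑ n : N, ρ (n : G)
    have hf : Cfsg.IsClassFunction G (fun g => if g ∈ N then (1 : ℂ) else 0) := fun g k => by
      have : k * g * k⁻¹ ∈ N ↔ g ∈ N := ⟨fun hh => by
        have := Subgroup.Normal.conj_mem (inferInstance : N.Normal) _ hh k⁻¹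
        simpa [mul_assoc] using this, fun hh => Subgroup.Normal.conj_mem inferInstance g hh k⟩
      simp only [this]
    obtain ⟨c, hc⟩ : ∃ c : ℂ, T = c • (1 : Module.End ℂ (Fin d → ℂ)) := by
      obtain ⟨c, hc, -⟩ := Char.sum_smul_rep_eq_scalar ρ hρ hf
      refine ⟨c, (?_ : T = ∑ g : G, (if g ∈ N then (1 : ℂ) else 0) • ρ g).trans hc⟩
      simp only [ite_smul, one_smul, zero_smul, ← Finset.sum_filter]
      exact (Finset.sum_subtype _ (by simp) (fun g => ρ g)).symm
    have htr : ∀ z : G, ∑ n : N, ρ.character ((n : G) * z) = c * ρ.character z := by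
      intro z
      calc ∑ n : N, ρ.character ((n : G) * z) = LinearMap.trace ℂ _ (T * ρ z) := by
            simp only [T, Finset.sum_mul, map_sum, Representation.character, map_mul]
        _ = c * ρ.character z := by
            rw [hc, smul_mul_assoc, one_mul, map_smul, smul_eq_mul]; rfl
    have h1 : ∑ n : N, ρ.character ((n : G) * 1) = 0 := by
      simp only [Cfsg.classInner, map_one, mul_one, mul_eq_zero, inv_eq_zero] at h
      rcases h with h | h
      · exact absurd h (Nat.cast_ne_zero.2 Nat.card_pos.ne')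
      · simpa [hχ] using h
    rw [htr, mul_eq_zero] at h1
    rw [htr]
    rcases h1 with h1 | h1
    · rw [h1, zero_mul]
    · obtain ⟨d', hd'0, hd', -⟩ := exists_degree χ
      rw [← hχ, h1] at hd'
      exact absurd (Nat.cast_eq_zero.1 hd'.symm) hd'0.ne'
  · exact Or.inl fun n hn => BlockChar.eq_degree_of_classInner_one χ.2 N h hn

/-- A character is a combination of irreducible ones, each with nonnegative multiplicity. -/
theorem exists_split {φ : G → ℂ} (hφ : IsCharacter G φ) :
    ∃ m : IrrCharacter G → ℕ, (∀ g, φ g = ∑ ψ, (m ψ : ℂ) * (ψ : G → ℂ) g) ∧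
      φ = ∑ ψ : IrrCharacter G, (m ψ : ℂ) • (ψ : G → ℂ) := by
  obtain ⟨m, -, hexp, -⟩ := Char.IsChar.exists_mult hφ
  refine ⟨m, fun g => ?_, hexp⟩
  conv_lhs => rw [hexp]
  simp [Finset.sum_apply]

/-- A character sums to a natural multiple of the order over a subgroup. -/
theorem exists_sum_eq {φ : G → ℂ} (hφ : IsCharacter G φ) (A : Subgroup G) :
    ∃ f : ℕ, ∑ a : A, φ a = (Nat.card A : ℂ) * f := by
  obtain ⟨f, hf⟩ := Char.classInner_isCharacter_eq_natCast (Char.isCharacter_res A hφ)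
    (Char.IsIrr.isCharacter (triv A).2)
  refine ⟨f, ?_⟩
  rw [← hf]
  simp only [Cfsg.classInner, triv, map_one, mul_one]
  rw [← mul_assoc, mul_inv_cancel₀ (Nat.cast_ne_zero.2 Nat.card_pos.ne'), one_mul]

/-- The fixed part of a character under a normal subgroup is a character trivial there. -/
theorem exists_fixed_part {φ : G → ℂ} (hφ : IsCharacter G φ) (N : Subgroup G) [N.Normal] :
    ∃ ψ : G → ℂ, IsCharacter G ψ ∧ (∀ y, ∑ n : N, φ ((n : G) * y) = (Nat.card N : ℂ) * ψ y) := by
  obtain ⟨m, hm, -⟩ := exists_split hφ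
  refine ⟨∑ χ : IrrCharacter G, ((if ∀ n ∈ N, (χ : G → ℂ) n = (χ : G → ℂ) 1 then m χ else 0 : ℕ) : ℂ) •
      (χ : G → ℂ), Char.isCharacter_sum _ _ fun χ _ =>
        Char.isCharacter_natCast_smul _ (Char.IsIrr.isCharacter χ.2), fun y => ?_⟩
  simp only [hm, Finset.sum_apply, Pi.smul_apply, smul_eq_mul, Finset.mul_sum]
  rw [Finset.sum_comm]
  refine Finset.sum_congr rfl fun χ _ => ?_
  rw [← Finset.mul_sum]
  split_ifs with h
  · rw [Finset.sum_congr rfl fun (n : N) _ =>
      Char.IsChar.mul_left_of_mem_kernel (Char.IsIrr.isCharacter χ.2) (h n n.2) y,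
      Finset.sum_const, Finset.card_univ, ← Nat.card_eq_fintype_card, nsmul_eq_mul]
    ring
  · rcases trivial_or_sum_eq_zero χ N with h' | h'
    · exact absurd h' h
    · rw [h' y]
      simp

end Chars

end Cfsg.Agent.EqualDrop
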