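import Cfsg.Agent.EqualDrop.Basic
import Cfsg.Agent.OddTrans.Six
import Mathlib.FieldTheory.Galois.Basic

/-!
# Fusion in a self-centralising elementary abelian Sylow subgroup with one class of involutions

The automizer has odd order and is transitive, hence semilinear; an element of prime order fixing
an involution then acts as a field automorphism.
-/

set_option autoImplicit false

namespace Cfsg.Agent.EqualDrop

open scoped ComplexConjugate
open scoped _root_.Classical
open Cfsg Cfsg.Agent Cfsg.Agent.Blocks Subgroup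

universe u

theorem comm_of_exp_two {G : Type u} [Group G] {P : Subgroup G} (hexp : ∀ x ∈ P, x * x = 1)
    {a b : G} (ha : a ∈ P) (hb : b ∈ P) : a * b = b * a := by
  have h1 := hexp _ (mul_mem ha hb)
  have hai : a⁻¹ = a := inv_eq_of_mul_eq_one_right (hexp a ha)
  have hbi : b⁻¹ = b := inv_eq_of_mul_eq_one_right (hexp b hb)
  rw [← inv_eq_of_mul_eq_one_right h1, mul_inv_rev, hai, hbi]

/-- In a field with two elements of characteristic a fixer of a fixed field is a power. -/
theorem fixed_field_facts {F : Type} [Field F] [Finite F] [CharP F 2] (σ : F ≃+* F) :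
    Nat.card F = Nat.card {a : F // σ a = a} ^ orderOf σ ∧
      ∀ τ : F ≃+* F, (∀ a, σ a = a → τ a = a) → ∃ i : ℤ, τ = σ ^ i := by
  letI : Algebra (ZMod 2) F := ZMod.algebra F 2
  have : FiniteDimensional (ZMod 2) F := Module.Finite.of_finite
  let up : (F ≃+* F) →* (F ≃ₐ[ZMod 2] F) :=
    { toFun := fun τ => AlgEquiv.ofRingEquiv (f := τ) fun r => by
        have h : (τ : F →+* F).comp (algebraMap (ZMod 2) F) = algebraMap (ZMod 2) F :=
          Subsingleton.elim _ _
        exact RingHom.congr_fun h r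
      map_one' := AlgEquiv.ext fun a => rfl
      map_mul' := fun a b => AlgEquiv.ext fun x => rfl }
  have hup : Function.Injective up := fun a b h => RingEquiv.ext fun x =>
    congrArg (fun e : F ≃ₐ[ZMod 2] F => e x) h
  set H := Subgroup.zpowers (up σ) with hH
  set K := IntermediateField.fixedField H with hK
  have hmem : ∀ a : F, a ∈ K ↔ σ a = a := by
    intro a
    constructor
    · intro h; exact h ⟨up σ, mem_zpowers _⟩
    · rintro h ⟨τ, hτ⟩
      have hstab : H ≤ MulAction.stabilizer (F ≃ₐ[ZMod 2] F) a := by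
        rw [hH, zpowers_le, MulAction.mem_stabilizer_iff]
        exact h
      exact hstab hτ
  constructor
  · have hfr : Module.finrank K F = orderOf σ := by
      rw [hK, IntermediateField.finrank_fixedField_eq_card, hH, Nat.card_zpowers,
        orderOf_injective up hup]
    have : Module.Finite K F := Module.Finite.of_finite
    rw [Module.natCard_eq_pow_finrank (K := K) (V := F), hfr]
    congr 1
    exact Nat.card_congr (Equiv.subtypeEquivRight hmem)
  · intro τ hτ
    have h1 : up τ ∈ IntermediateField.fixingSubgroup K := by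
      rw [IntermediateField.mem_fixingSubgroup_iff]
      exact fun a ha => hτ a ((hmem a).1 ha)
    rw [hK, IntermediateField.fixingSubgroup_fixedField, hH] at h1
    obtain ⟨i, hi⟩ := mem_zpowers_iff.1 h1
    exact ⟨i, hup (by rw [map_zpow, hi])⟩

variable {G : Type u} [Group G] [Finite G] (P : Sylow 2 G)

/-- An element of odd prime order in the normaliser fixing an involution acts as a field
automorphism. -/
theorem exists_fixer (hexp : ∀ x ∈ (P : Subgroup G), x * x = 1)
    (hCP : centralizer ((P : Subgroup G) : Set G) ≤ P)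
    (htrans : ∀ a ∈ (P : Subgroup G), ∀ b ∈ (P : Subgroup G), a ≠ 1 → b ≠ 1 →
      ∃ n ∈ normalizer ((P : Subgroup G) : Set G), n * a * n⁻¹ = b)
    {g t : G} {o : ℕ} (hg : g ∈ normalizer ((P : Subgroup G) : Set G)) (ho : o.Prime) (hodd : Odd o)
    (hgo : orderOf g = o) (ht : t ∈ (P : Subgroup G)) (ht1 : t ≠ 1) (hgt : g * t = t * g) :
    Nat.card ((P : Subgroup G) ⊓ centralizer ({g} : Set G) : Subgroup G) ^ o =
        Nat.card (P : Subgroup G) ∧
      ∀ h ∈ normalizer ((P : Subgroup G) : Set G),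
        (∀ z ∈ (P : Subgroup G) ⊓ centralizer ({g} : Set G), h * z = z * h) →
        (∃ i : ℤ, h * (g ^ i)⁻¹ ∈ (P : Subgroup G)) := by
  classical
  have : Fact (Nat.Prime 2) := ⟨Nat.prime_two⟩
  set V := Additive (P : Subgroup G)
  letI : CommGroup (P : Subgroup G) :=
    { (inferInstance : Group (P : Subgroup G)) with
      mul_comm := fun a b => Subtype.ext (comm_of_exp_two hexp a.2 b.2) }
  letI : Module (ZMod 2) V := AddCommGroup.zmodModule fun v => by
    rw [two_nsmul]
    exact Additive.toMul.injective (Subtype.ext (hexp _ v.toMul.2))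
  set N := normalizer ((P : Subgroup G) : Set G) with hN
  have : Nontrivial V := ⟨⟨Additive.ofMul ⟨t, ht⟩, 0, fun h => ht1 (congrArg Subtype.val
    (congrArg Additive.toMul h))⟩⟩
  have hconj : ∀ (n : N) (x : (P : Subgroup G)), (n : G) * x * (n : G)⁻¹ ∈ (P : Subgroup G) :=
    fun n x => (mem_normalizer_iff.1 n.2 x).1 x.2
  have hconj' : ∀ (n : N) (x : (P : Subgroup G)), (n : G)⁻¹ * x * (n : G) ∈ (P : Subgroup G) :=
    fun n x => by simpa using (mem_normalizer_iff.1 (inv_mem n.2) x).1 x.2
  let act : N → (V ≃ₗ[ZMod 2] V) := fun n => AddEquiv.toLinearEquiv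
    { toFun := fun v => Additive.ofMul ⟨(n : G) * v.toMul * (n : G)⁻¹, hconj n v.toMul⟩
      invFun := fun v => Additive.ofMul ⟨(n : G)⁻¹ * v.toMul * (n : G), hconj' n v.toMul⟩
      left_inv := fun v => Additive.toMul.injective (Subtype.ext (by
        show (n : G)⁻¹ * ((n : G) * v.toMul * (n : G)⁻¹) * n = v.toMul
        group))
      right_inv := fun v => Additive.toMul.injective (Subtype.ext (by
        show (n : G) * ((n : G)⁻¹ * v.toMul * (n : G)) * (n : G)⁻¹ = v.toMul
        group))
      map_add' := fun a b => Additive.toMul.injective (Subtype.ext (by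
        show (n : G) * (a.toMul * b.toMul : G) * (n : G)⁻¹ =
          ((n : G) * a.toMul * (n : G)⁻¹) * ((n : G) * b.toMul * (n : G)⁻¹)
        group)) }
    (fun c x => ZMod.map_smul _ c x)
  let φ : N →* (V ≃ₗ[ZMod 2] V) :=
    { toFun := act
      map_one' := LinearEquiv.ext fun v => Additive.toMul.injective (Subtype.ext (by
        show (1 : G) * v.toMul * (1 : G)⁻¹ = v.toMul
        group))
      map_mul' := fun a b => LinearEquiv.ext fun v => Additive.toMul.injective (Subtype.ext (by
        show ((a : G) * b) * v.toMul * ((a : G) * b)⁻¹ =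
          (a : G) * ((b : G) * v.toMul * (b : G)⁻¹) * (a : G)⁻¹
        group)) }
  have hφv : ∀ (n : N) (v : V), (((φ n v).toMul : (P : Subgroup G)) : G) =
      (n : G) * v.toMul * (n : G)⁻¹ := fun _ _ => rfl
  have hfix : ∀ (n : N) (v : V), φ n v = v ↔ (n : G) * v.toMul = v.toMul * n := by
    intro n v
    constructor
    · intro h
      have h' := congrArg (fun w : V => ((w.toMul : (P : Subgroup G)) : G)) h
      simp only [hφv] at h'
      rwa [mul_inv_eq_iff_eq_mul] at h'
    · intro h
      refine Additive.toMul.injective (Subtype.ext ?_)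
      rw [hφv, mul_inv_eq_iff_eq_mul, h]
  have hker : ∀ n : N, φ n = 1 → (n : G) ∈ (P : Subgroup G) := fun n hn => hCP (by
    rw [mem_centralizer_iff]
    intro a ha
    have h := (hfix n (Additive.ofMul ⟨a, ha⟩)).1 (by rw [hn]; rfl)
    exact h.symm)
  have hkerP : (P : Subgroup G).subgroupOf N ≤ φ.ker := fun n hn => by
    rw [MonoidHom.mem_ker]
    exact LinearEquiv.ext fun v =>
      (hfix n v).2 (comm_of_exp_two hexp (mem_subgroupOf.1 hn) v.toMul.2)
  have hEodd : Odd (Nat.card (N ⧸ φ.ker)) := by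
    rw [← Subgroup.index_eq_card, ← Nat.not_even_iff_odd, even_iff_two_dvd]
    intro h
    have h1 : 2 ∣ ((P : Subgroup G).subgroupOf N).index := h.trans (index_dvd_of_le hkerP)
    refine P.not_dvd_index (h1.trans ?_)
    refine (Nat.mul_dvd_mul_iff_left (Nat.card_pos (α := (P : Subgroup G)))).1 ?_
    rw [(P : Subgroup G).card_mul_index]
    have hc := ((P : Subgroup G).subgroupOf N).card_mul_index
    rw [Nat.card_congr (subgroupOfEquivOfLe (le_normalizer (H := (P : Subgroup G)))).toEquiv] at hc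
    rw [hc]
    exact card_subgroup_dvd_card N
  let ρ : N ⧸ φ.ker →* (V ≃ₗ[ZMod 2] V) := QuotientGroup.kerLift φ
  obtain ⟨-, -, F, _, _, e, he⟩ := OddTrans.exists_kernel ρ (QuotientGroup.kerLift_injective φ)
    hEodd (fun a b ha hb => by
      obtain ⟨n, hn, hnab⟩ := htrans a.toMul a.toMul.2 b.toMul b.toMul.2
        (fun h => ha (Additive.toMul.injective (Subtype.ext h)))
        (fun h => hb (Additive.toMul.injective (Subtype.ext h)))
      exact ⟨QuotientGroup.mk ⟨n, hn⟩, Additive.toMul.injective (Subtype.ext hnab)⟩)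
  have hchar : CharP F 2 := by
    refine CharTwo.of_one_ne_zero_of_two_eq_zero one_ne_zero ?_
    obtain ⟨w, hw⟩ := e.surjective 1
    rw [← one_add_one_eq_two, ← hw, ← map_add, ← two_nsmul]
    have : (2 : ℕ) • w = 0 := by
      rw [← Nat.cast_smul_eq_nsmul (ZMod 2), show ((2 : ℕ) : ZMod 2) = 0 from rfl, zero_smul]
    rw [this, map_zero]
  -- normalise at the involution
  set vt : V := Additive.ofMul ⟨t, ht⟩ with hvt
  have hvt0 : e vt ≠ 0 := fun h => ht1 (congrArg Subtype.val
    (congrArg Additive.toMul (e.injective (h.trans (map_zero e).symm) : vt = 0)))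
  let e' : V → F := fun v => e v * (e vt)⁻¹
  have he'i : Function.Injective e' := fun a b h =>
    e.injective (mul_right_cancel₀ (inv_ne_zero hvt0) h)
  have he's : Function.Surjective e' := fun a => by
    obtain ⟨v, hv⟩ := e.surjective (a * e vt)
    exact ⟨v, by show e v * (e vt)⁻¹ = a; rw [hv, mul_inv_cancel_right₀ hvt0]⟩
  have hsemi : ∀ n : N, (n : G) * t = t * n → ∃ σ : F ≃+* F, ∀ v, e' (φ n v) = σ (e' v) := by
    intro n hn
    obtain ⟨a, σ, h⟩ := he (QuotientGroup.mk n)
    have h' : ∀ v, e (φ n v) = a * σ (e v) := h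
    refine ⟨σ, fun v => ?_⟩
    have ha : a * σ (e vt) = e vt := by rw [← h' vt, (hfix n vt).2 hn]
    have hσ0 : σ (e vt) ≠ 0 := fun h0 => hvt0 (σ.injective (h0.trans (map_zero σ).symm))
    show e (φ n v) * (e vt)⁻¹ = σ (e v * (e vt)⁻¹)
    rw [h', map_mul, map_inv₀]
    field_simp
    linear_combination (σ (e v)) * ha
  obtain ⟨σ, hσ⟩ := hsemi ⟨g, hg⟩ hgt
  obtain ⟨hcard, hfixer⟩ := fixed_field_facts σ
  have hpow : ∀ (i : ℕ) (v : V), e' (φ (⟨g, hg⟩ ^ i) v) = (σ ^ i) (e' v) := by
    intro i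
    induction i with
    | zero => intro v; rw [pow_zero, pow_zero, map_one]; rfl
    | succ i ih =>
      intro v
      rw [pow_succ', pow_succ', map_mul, LinearEquiv.mul_apply, hσ, ih]
      rfl
  have hσo : orderOf σ = o := by
    refine orderOf_eq_prime (hp := ⟨ho⟩) ?_ ?_
    · refine RingEquiv.ext fun a => ?_
      obtain ⟨v, rfl⟩ := he's a
      rw [← hpow, show (⟨g, hg⟩ : N) ^ o = 1 from Subtype.ext (by
        rw [SubgroupClass.coe_pow, ← hgo, pow_orderOf_eq_one]; rfl), map_one]
      rfl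
    · intro h1
      have hg1 : φ ⟨g, hg⟩ = 1 := LinearEquiv.ext fun v => he'i (by rw [hσ, h1]; rfl)
      have hgP := hker _ hg1
      have h2 : o ∣ 2 := hgo ▸ orderOf_dvd_of_pow_eq_one (by rw [pow_two]; exact hexp g hgP)
      have := Nat.le_of_dvd two_pos h2
      obtain ⟨j, hj⟩ := hodd
      have := ho.two_le
      omega
  have hmem : ∀ v : V, ((v.toMul : (P : Subgroup G)) : G) ∈
      (P : Subgroup G) ⊓ centralizer ({g} : Set G) ↔ σ (e' v) = e' v := by
    intro v
    rw [Subgroup.mem_inf, mem_centralizer_singleton_iff, ← hσ, he'i.eq_iff, hfix]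
    exact ⟨fun h => h.2.symm, fun h => ⟨v.toMul.2, h.symm⟩⟩
  refine ⟨?_, fun h hh hz => ?_⟩
  · have hFV : Nat.card F = Nat.card (P : Subgroup G) :=
      (Nat.card_congr (Equiv.ofBijective e' ⟨he'i, he's⟩)).symm.trans (Nat.card_congr Additive.toMul)
    rw [← hFV, hcard, hσo]
    congr 1
    refine Nat.card_congr (Equiv.ofBijective
      (fun z => ⟨e' (Additive.ofMul ⟨z.1, z.2.1⟩), (hmem (Additive.ofMul ⟨z.1, z.2.1⟩)).1 z.2⟩) ⟨?_, ?_⟩)
    · intro a b hab
      have := he'i (congrArg Subtype.val hab)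
      exact Subtype.ext (congrArg (fun w : V => ((w.toMul : (P : Subgroup G)) : G)) this)
    · rintro ⟨a, ha⟩
      obtain ⟨v, rfl⟩ := he's a
      exact ⟨⟨_, (hmem v).2 ha⟩, rfl⟩
  · obtain ⟨τ, hτ⟩ := hsemi ⟨h, hh⟩ (hz t (Subgroup.mem_inf.2
      ⟨ht, mem_centralizer_singleton_iff.2 hgt.symm⟩))
    obtain ⟨i, hi⟩ := hfixer τ fun a ha => by
      obtain ⟨v, rfl⟩ := he's a
      rw [← hτ, (hfix ⟨h, hh⟩ v).2 (hz _ ((hmem v).2 ha))]
    obtain ⟨j, rfl⟩ : ∃ j : ℕ, τ = σ ^ j := by
      refine ⟨(i % o).toNat, ?_⟩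
      rw [hi, ← zpow_natCast, Int.toNat_of_nonneg (Int.emod_nonneg _ (by exact_mod_cast ho.ne_zero)),
        ← hσo, zpow_mod_orderOf]
    have heq : φ ⟨h, hh⟩ = φ (⟨g, hg⟩ ^ j) := LinearEquiv.ext fun v => he'i (by rw [hτ, hpow])
    have hk1 : φ (⟨h, hh⟩ * (⟨g, hg⟩ ^ j)⁻¹) = 1 := by rw [map_mul, map_inv, heq, mul_inv_cancel]
    refine ⟨j, ?_⟩
    rw [zpow_natCast]
    exact hker _ hk1

end Cfsg.Agent.EqualDrop
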