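import Cfsg.Agent.EqualDrop.Local
import Cfsg.Agent.BlockChar.ThirdMain
import Cfsg.Agent.Layer.PConstraint
import Cfsg.Agent.Invol.Pair
import Cfsg.Agent.Invol.ElemCentralizer
import Cfsg.Agent.Core.PCore
import Cfsg.Agent.S1227
import Cfsg.Agent.S1228

/-!
# The centraliser of the fixed points of a field automorphism, modulo its odd core

Modulo the odd core the involution centralisers outside the fixed points are the Sylow subgroup.
Either the Sylow subgroup becomes normal, against the third main theorem, or all these involutions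
fuse, which leaves only the order sixty configuration.
-/

set_option autoImplicit false

namespace Cfsg.Agent.EqualDrop

open scoped ComplexConjugate Pointwise
open scoped _root_.Classical
open Cfsg Cfsg.Agent Cfsg.Agent.Blocks Subgroup

universe u

section Abstract

variable {Y : Type u} [Group Y] [Finite Y] (T : Sylow 2 Y)

/-- Two-elements of such a group square to one. -/
theorem sq_eq_one_of_pGroup (hexp : ∀ x ∈ (T : Subgroup Y), x * x = 1) {c : Y}
    (hc : IsPGroup 2 (zpowers c)) : c * c = 1 ∧ ∃ w : Y, w * c * w⁻¹ ∈ (T : Subgroup Y) := by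
  have : Fact (Nat.Prime 2) := ⟨Nat.prime_two⟩
  obtain ⟨Q, hQ⟩ := hc.exists_le_sylow
  obtain ⟨w, hw⟩ := MulAction.exists_smul_eq Y Q T
  have hmem : w * c * w⁻¹ ∈ (T : Subgroup Y) := by
    rw [← hw, Sylow.smul_def, Sylow.pointwise_smul_def, Subgroup.mem_pointwise_smul_iff_inv_smul_mem,
      ← map_inv, MulAut.smul_def, MulAut.conj_apply]
    simpa [mul_assoc] using hQ (mem_zpowers c)
  refine ⟨?_, w, hmem⟩
  have h := hexp _ hmem
  rw [show w * c * w⁻¹ * (w * c * w⁻¹) = w * (c * c) * w⁻¹ by group, mul_inv_eq_one] at h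
  calc c * c = w⁻¹ * (w * (c * c)) := by group
    _ = w⁻¹ * w := by rw [h]
    _ = 1 := by group

/-- Either the Sylow subgroup is normal or the involutions outside the central subgroup fuse
modulo it. -/
theorem normal_or_isConj (hexp : ∀ x ∈ (T : Subgroup Y), x * x = 1) (R : Subgroup Y)
    (hRT : R ≤ T) (hRc : R ≤ center Y)
    (hC : ∀ y ∈ (T : Subgroup Y), y ∉ R → centralizer ({y} : Set Y) ≤ T) :
    (T : Subgroup Y).Normal ∨
      ∀ a ∈ (T : Subgroup Y), a ∉ R → ∀ b ∈ (T : Subgroup Y), b ∉ R → ∃ r ∈ R, IsConj a (b * r) := by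
  have : Fact (Nat.Prime 2) := ⟨Nat.prime_two⟩
  have hcomm : ∀ a ∈ (T : Subgroup Y), ∀ b ∈ (T : Subgroup Y), a * b = b * a := fun a ha b hb => by
    have hai : a⁻¹ = a := inv_eq_of_mul_eq_one_right (hexp a ha)
    have hbi : b⁻¹ = b := inv_eq_of_mul_eq_one_right (hexp b hb)
    rw [← inv_eq_of_mul_eq_one_right (hexp _ (mul_mem ha hb)), mul_inv_rev, hai, hbi]
  have hcen : ∀ r ∈ R, ∀ y : Y, r * y = y * r := fun r hr y => (mem_center_iff.1 (hRc hr) y).symm
  have hord : ∀ a ∈ (T : Subgroup Y), a ∉ R → orderOf a = 2 := fun a ha haR =>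
    orderOf_eq_prime (by rw [pow_two]; exact hexp a ha) fun e => haR (e ▸ one_mem R)
  refine or_iff_not_imp_right.2 fun hnot => ?_
  push Not at hnot
  obtain ⟨a, ha, haR, b, hb, hbR, hab⟩ := hnot
  -- every conjugate of one commutes with the other
  have hclass : ∀ y : Y, y * a * y⁻¹ ∈ centralizer ({b} : Set Y) := by
    intro y
    set a' := y * a * y⁻¹ with ha'
    have ha'2 : orderOf a' = 2 := by
      rw [ha', ← MulAut.conj_apply, MulEquiv.orderOf_eq]; exact hord a ha haR
    have hb2 := hord b hb hbR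
    have hnc : ∀ r ∈ R, ¬ IsConj a' (b * r) := fun r hr h =>
      hab r hr ((isConj_iff.2 ⟨y, ha'.symm⟩).trans h)
    have hna : ¬ Odd (orderOf (a' * b)) := fun h =>
      hnc 1 (one_mem R) (by rw [mul_one]; exact Invol.isConj_of_odd ha'2 hb2 h)
    obtain ⟨m, hm⟩ := Nat.not_odd_iff_even.1 hna
    set c := (a' * b) ^ m with hc
    have hm0 : 0 < m := by
      have := orderOf_pos (a' * b); omega
    have hc2 : orderOf c = 2 := by
      rw [hc, orderOf_pow' _ hm0.ne', hm, Nat.gcd_eq_right (⟨2, by ring⟩ : m ∣ m + m), ← two_mul,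
        Nat.mul_div_cancel _ hm0]
    have hainv : a'⁻¹ = a' := inv_eq_of_mul_eq_one_right (by
      rw [← pow_two, ← ha'2, pow_orderOf_eq_one])
    have hbinv : b⁻¹ = b := inv_eq_of_mul_eq_one_right (hexp b hb)
    have hcinv : c⁻¹ = c := inv_eq_of_mul_eq_one_right (by
      rw [← pow_two, ← hc2, pow_orderOf_eq_one])
    have hca : a' * c = c * a' := by
      have h1 : a' * c * a'⁻¹ = c := by
        conv_rhs => rw [← hcinv, hc, ← inv_pow, mul_inv_rev, hainv, hbinv]
        rw [hc, ← conj_pow, hainv]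
        congr 1
        rw [show a' * (a' * b) * a' = (a' * a') * b * a' by group,
          show a' * a' = 1 by rw [← pow_two, ← ha'2, pow_orderOf_eq_one], one_mul]
      rwa [mul_inv_eq_iff_eq_mul] at h1
    have hcb : b * c = c * b := by
      have h2 : Commute (a' * b) c := (Commute.refl (a' * b)).pow_right m
      have h3 : a' * b * c = c * a' * b := by rw [h2.eq]; group
      refine mul_left_cancel (a := a') ?_
      calc a' * (b * c) = a' * b * c := (mul_assoc _ _ _).symm
        _ = c * a' * b := h3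
        _ = a' * c * b := by rw [hca]
        _ = a' * (c * b) := mul_assoc _ _ _
    by_cases hcR : c ∈ R
    · exfalso
      have hmodd : Odd m := by
        by_contra hev
        obtain ⟨l, hl⟩ := Nat.not_odd_iff_even.1 hev
        have hl0 : 0 < l := by omega
        set d := (a' * b) ^ l with hd
        have hd4 : orderOf d = 4 := by
          rw [hd, orderOf_pow' _ hl0.ne', hm, Nat.gcd_eq_right (⟨4, by omega⟩ : l ∣ m + m), hl,
            show l + l + (l + l) = 4 * l by ring, Nat.mul_div_cancel _ hl0]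
        have hdp : IsPGroup 2 (zpowers d) := IsPGroup.of_card (n := 2) (by
          rw [Nat.card_zpowers, hd4]; norm_num)
        have h := (sq_eq_one_of_pGroup T hexp hdp).1
        have h4 := orderOf_dvd_of_pow_eq_one (show d ^ 2 = 1 by rw [pow_two, h])
        rw [hd4] at h4
        exact absurd (Nat.le_of_dvd two_pos h4) (by norm_num)
      refine hnc c hcR (Invol.isConj_of_odd ha'2 (orderOf_eq_prime ?_ ?_) ?_)
      · rw [pow_two]; exact hexp _ (mul_mem hb (hRT hcR))
      · intro e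
        exact hbR (by rw [eq_inv_of_mul_eq_one_left e]; exact inv_mem hcR)
      · rw [← mul_assoc, hc, ← pow_succ']
        obtain ⟨i, hi⟩ := hmodd
        refine Odd.of_dvd_nat ⟨i, hi⟩ (orderOf_dvd_of_pow_eq_one ?_)
        rw [← pow_mul, show (m + 1) * m = (m + m) * (i + 1) by rw [hi]; ring, pow_mul, ← hm,
          pow_orderOf_eq_one, one_pow]
    · obtain ⟨-, w, hw⟩ := sq_eq_one_of_pGroup T hexp
        (IsPGroup.of_card (n := 1) (by rw [Nat.card_zpowers, hc2, pow_one]))
      have hwR : w * c * w⁻¹ ∉ R := fun h => hcR (by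
        have h1 := hcen _ h w
        have : c = w * c * w⁻¹ := by
          calc c = w⁻¹ * (w * c * w⁻¹ * w) := by group
            _ = w⁻¹ * (w * (w * c * w⁻¹)) := by rw [h1]
            _ = w * c * w⁻¹ := by group
        rw [this]; exact h)
      have hmem : ∀ x : Y, x * c = c * x → w * x * w⁻¹ ∈ (T : Subgroup Y) := fun x hx =>
        hC _ hw hwR (mem_centralizer_singleton_iff.2 (by
          calc w * x * w⁻¹ * (w * c * w⁻¹) = w * (x * c) * w⁻¹ := by group
            _ = w * (c * x) * w⁻¹ := by rw [hx]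
            _ = w * c * w⁻¹ * (w * x * w⁻¹) := by group))
      refine mem_centralizer_singleton_iff.2 ?_
      have h := hcomm _ (hmem a' hca) _ (hmem b hcb)
      calc a' * b = w⁻¹ * (w * a' * w⁻¹ * (w * b * w⁻¹)) * w := by group
        _ = w⁻¹ * (w * b * w⁻¹ * (w * a' * w⁻¹)) * w := by rw [h]
        _ = b * a' := by group
  set N := Subgroup.normalClosure ({a} : Set Y) with hN
  have hNn : N.Normal := Subgroup.normalClosure_normal
  have hNT : N ≤ T := by
    rw [hN, Subgroup.normalClosure]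
    refine (closure_le _).2 fun x hx => ?_
    obtain ⟨a₀, ha₀, hconj⟩ := Group.mem_conjugatesOfSet_iff.1 hx
    rw [Set.mem_singleton_iff] at ha₀
    rw [ha₀] at hconj
    obtain ⟨y, rfl⟩ := isConj_iff.1 hconj
    exact hC b hb hbR (hclass y)
  have hcen' : centralizer (N : Set Y) = (T : Subgroup Y) := by
    refine le_antisymm (le_trans (centralizer_le ?_) (hC a ha haR)) fun x hx =>
      mem_centralizer_iff.2 fun y hy => hcomm y (hNT hy) x hx
    exact Set.singleton_subset_iff.2 (Subgroup.subset_normalClosure rfl)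
  rw [← hcen']
  infer_instance

omit [Finite Y] in
theorem card_centralizer_conj {Z : Type u} [Group Z] (h a : Z) :
    Nat.card (centralizer ({h * a * h⁻¹} : Set Z)) = Nat.card (centralizer ({a} : Set Z)) := by
  refine Nat.card_congr
    { toFun := fun c => ⟨h⁻¹ * c * h, mem_centralizer_singleton_iff.2 (by
        have := mem_centralizer_singleton_iff.1 c.2
        calc h⁻¹ * (c : Z) * h * a = h⁻¹ * ((c : Z) * (h * a * h⁻¹)) * h := by group
          _ = h⁻¹ * (h * a * h⁻¹ * c) * h := by rw [this]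
          _ = a * (h⁻¹ * c * h) := by group)⟩
      invFun := fun c => ⟨h * c * h⁻¹, mem_centralizer_singleton_iff.2 (by
        have := mem_centralizer_singleton_iff.1 c.2
        calc h * (c : Z) * h⁻¹ * (h * a * h⁻¹) = h * ((c : Z) * a) * h⁻¹ := by group
          _ = h * (a * c) * h⁻¹ := by rw [this]
          _ = h * a * h⁻¹ * (h * c * h⁻¹) := by group)⟩
      left_inv := fun c => Subtype.ext (show h * (h⁻¹ * (c : Z) * h) * h⁻¹ = c by group)
      right_inv := fun c => Subtype.ext (show h⁻¹ * (h * (c : Z) * h⁻¹) * h = c by group) }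

/-- The configuration of order eight with a fixed involution. -/
theorem three_facts (hexp : ∀ x ∈ (T : Subgroup Y), x * x = 1) (R : Subgroup Y)
    (hRT : R ≤ T) (hRc : R ≤ center Y) (hR2 : Nat.card R = 2)
    (hT8 : Nat.card (T : Subgroup Y) = 8)
    (hC : ∀ y ∈ (T : Subgroup Y), y ∉ R → centralizer ({y} : Set Y) ≤ T)
    (hnn : ¬ (T : Subgroup Y).Normal)
    (hfus : ∀ y ∈ (T : Subgroup Y), y ∉ R → ∀ r ∈ R, r ≠ 1 → ¬ IsConj y (y * r))
    {g : Y} (hg : g ∈ normalizer ((T : Subgroup Y) : Set Y)) (hgo : orderOf g = 3) :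
    Nat.card (centralizer ({g} : Set Y)) ≤ 6 ∧ IsConj g g⁻¹ := by
  have : Fact (Nat.Prime 2) := ⟨Nat.prime_two⟩
  have : Fact (Nat.Prime 3) := ⟨Nat.prime_three⟩
  have hRn : R.Normal := ⟨fun r hr x => by
    rw [mem_center_iff.1 (hRc hr) x, mul_inv_cancel_right]; exact hr⟩
  have hcomm : ∀ a ∈ (T : Subgroup Y), ∀ b ∈ (T : Subgroup Y), a * b = b * a := fun a ha b hb => by
    have hai : a⁻¹ = a := inv_eq_of_mul_eq_one_right (hexp a ha)
    have hbi : b⁻¹ = b := inv_eq_of_mul_eq_one_right (hexp b hb)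
    rw [← inv_eq_of_mul_eq_one_right (hexp _ (mul_mem ha hb)), mul_inv_rev, hai, hbi]
  set π := QuotientGroup.mk' R with hπ
  let T' : Sylow 2 (Y ⧸ R) := T.mapSurjective (QuotientGroup.mk'_surjective R)
  have hT' : (T' : Subgroup (Y ⧸ R)) = (T : Subgroup Y).map π := Sylow.coe_mapSurjective _ _
  have hsub : ∀ x : Y, π x ∈ (T' : Subgroup (Y ⧸ R)) → x ∈ (T : Subgroup Y) := by
    intro x hx
    rw [hT', ← mem_comap, Subgroup.comap_map_eq, QuotientGroup.ker_mk', sup_of_le_left hRT] at hx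
    exact hx
  have hT'4 : Nat.card (T' : Subgroup (Y ⧸ R)) = 4 := by
    rw [hT']
    have h := Subgroup.card_mul_index ((T : Subgroup Y).map π)
    have h2 := Subgroup.card_mul_index (T : Subgroup Y)
    rw [← index_comap_of_surjective _ (QuotientGroup.mk'_surjective R), Subgroup.comap_map_eq,
      QuotientGroup.ker_mk', sup_of_le_left hRT] at h
    have h3 : Nat.card Y = Nat.card (Y ⧸ R) * Nat.card R := R.card_eq_card_quotient_mul_card_subgroup
    rw [hT8] at h2
    rw [hR2] at h3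
    have h4 : 0 < (T : Subgroup Y).index := Nat.pos_of_ne_zero Subgroup.index_ne_zero_of_finite
    nlinarith
  have hexp' : ∀ x ∈ (T' : Subgroup (Y ⧸ R)), x * x = 1 := by
    intro x hx
    rw [hT'] at hx
    obtain ⟨y, hy, rfl⟩ := hx
    rw [← map_mul, hexp y hy, map_one]
  have hnc : ¬ IsCyclic (T' : Subgroup (Y ⧸ R)) := by
    intro hcyc
    obtain ⟨x, hx⟩ := hcyc.exists_ofOrder_eq_natCard
    have : orderOf x ∣ 2 := orderOf_dvd_of_pow_eq_one (Subtype.ext (by
      rw [pow_two]; exact hexp' _ x.2))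
    rw [hx, hT'4] at this
    exact absurd (Nat.le_of_dvd two_pos this) (by norm_num)
  have hnn' : ¬ (T' : Subgroup (Y ⧸ R)).Normal := fun h => hnn (by
    have := h.comap π
    rwa [hT', Subgroup.comap_map_eq, QuotientGroup.ker_mk', sup_of_le_left hRT] at this)
  have hCY : ∀ y ∈ (T : Subgroup Y), y ∉ R → ∀ x : Y,
      π x ∈ centralizer ({π y} : Set (Y ⧸ R)) → x ∈ (T : Subgroup Y) := by
    intro y hy hyR x hx
    rw [mem_centralizer_singleton_iff] at hx
    have h1 : π (x * y * x⁻¹) = π y := by rw [map_mul, map_mul, map_inv, hx, mul_inv_cancel_right]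
    set r := y⁻¹ * (x * y * x⁻¹) with hr
    have hrR : r ∈ R := by
      rw [← QuotientGroup.eq_one_iff]
      show π r = 1
      rw [hr, map_mul, map_inv, h1, inv_mul_cancel]
    by_cases hr1 : r = 1
    · refine hC y hy hyR (mem_centralizer_singleton_iff.2 ?_)
      rw [hr, inv_mul_eq_one] at hr1
      exact (eq_mul_inv_iff_mul_eq.1 hr1).symm
    · exact absurd (isConj_iff.2 ⟨x, by rw [hr]; group⟩) (hfus y hy hyR r hrR hr1)
  have hinv : ∀ z : Y ⧸ R, orderOf z = 2 → IsMulCommutative (centralizer ({z} : Set (Y ⧸ R))) ∧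
      ∀ c ∈ centralizer ({z} : Set (Y ⧸ R)), c ^ 2 = 1 := by
    intro z hz
    obtain ⟨-, w, hw⟩ := sq_eq_one_of_pGroup T' hexp'
      (IsPGroup.of_card (n := 1) (by rw [Nat.card_zpowers, hz, pow_one]))
    rw [hT'] at hw
    obtain ⟨y, hy, hyw⟩ := hw
    have hyR : y ∉ R := by
      intro h
      have h1 : π y = 1 := (QuotientGroup.eq_one_iff y).2 h
      rw [h1, eq_comm, mul_inv_eq_one] at hyw
      have : z = 1 := mul_left_cancel (hyw.trans (mul_one w).symm)
      rw [this, orderOf_one] at hz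
      omega
    have hmem : ∀ c ∈ centralizer ({z} : Set (Y ⧸ R)), w * c * w⁻¹ ∈ (T' : Subgroup (Y ⧸ R)) := by
      intro c hc
      rw [mem_centralizer_singleton_iff] at hc
      obtain ⟨x, hx⟩ := QuotientGroup.mk'_surjective R (w * c * w⁻¹)
      rw [hT']
      refine ⟨x, hCY y hy hyR x ?_, hx⟩
      rw [mem_centralizer_singleton_iff, hx, hyw]
      calc w * c * w⁻¹ * (w * z * w⁻¹) = w * (c * z) * w⁻¹ := by group
        _ = w * (z * c) * w⁻¹ := by rw [hc]
        _ = w * z * w⁻¹ * (w * c * w⁻¹) := by group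
    have hsq : ∀ c ∈ centralizer ({z} : Set (Y ⧸ R)), c * c = 1 := by
      intro c hc
      have h := hexp' _ (hmem c hc)
      rw [show w * c * w⁻¹ * (w * c * w⁻¹) = w * (c * c) * w⁻¹ by group, mul_inv_eq_one] at h
      exact mul_left_cancel (h.trans (mul_one w).symm)
    refine ⟨⟨⟨fun a b => Subtype.ext ?_⟩⟩, fun c hc => by rw [pow_two]; exact hsq c hc⟩
    show (a : Y ⧸ R) * b = b * a
    have hai : (a : Y ⧸ R)⁻¹ = a := inv_eq_of_mul_eq_one_right (hsq _ a.2)
    have hbi : (b : Y ⧸ R)⁻¹ = b := inv_eq_of_mul_eq_one_right (hsq _ b.2)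
    rw [← inv_eq_of_mul_eq_one_right (hsq _ (mul_mem a.2 b.2)), mul_inv_rev, hai, hbi]
  -- an involution outside the normaliser
  set H := normalizer ((T' : Subgroup (Y ⧸ R)) : Set (Y ⧸ R)) with hH
  obtain ⟨u, hu, huH⟩ : ∃ u : Y ⧸ R, orderOf u = 2 ∧ u ∉ H := by
    by_contra! hall
    refine hnn' ⟨fun n hn x => ?_⟩
    by_cases hn1 : n = 1
    · rw [hn1, mul_one, mul_inv_cancel]; exact one_mem _
    have ho : orderOf (x * n * x⁻¹) = 2 := by
      rw [← MulAut.conj_apply, MulEquiv.orderOf_eq]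
      exact orderOf_eq_prime (by rw [pow_two]; exact hexp' n hn) hn1
    refine le_of_le_normalizer T' (H := zpowers (x * n * x⁻¹)) (zpowers_le.2 (hall _ ho))
      (fun y hy r hr hrodd hyr => ?_) (mem_zpowers _)
    have h2 : r ∣ 2 := by
      have h := orderOf_dvd_natCard _ hy
      rwa [hyr, Nat.card_zpowers, ho] at h
    rw [(Nat.prime_dvd_prime_iff_eq hr Nat.prime_two).1 h2] at hrodd
    exact absurd hrodd (by decide)
  set D := H ⊓ H.map (MulAut.conj u).toMonoidHom with hD
  obtain ⟨hHc, hDc⟩ := Invol.ec_card hnc hnn' hinv hu huH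
  obtain ⟨hinvD, -, -⟩ := S1227.result T' hnc hnn' hinv u hu huH
  obtain ⟨hND, -⟩ := S1228.result T' hnc hnn' hinv u hu huH
  rw [hT'4] at hHc hDc
  set g' := π g with hg'
  have hg'o : orderOf g' = 3 := by
    refine orderOf_eq_prime ?_ ?_
    · rw [hg', ← map_pow, ← hgo, pow_orderOf_eq_one, map_one]
    · intro e
      have hgR : g ∈ R := (QuotientGroup.eq_one_iff g).1 e
      have h := orderOf_dvd_natCard R hgR
      rw [hgo, hR2] at h
      exact absurd (Nat.le_of_dvd two_pos h) (by norm_num)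
  have hg'H : g' ∈ H := by
    have hle := le_normalizer_map π (H := (T : Subgroup Y)) ⟨g, hg, rfl⟩
    rw [hH, hT']
    exact hle
  -- the two subgroups of order three are conjugate
  obtain ⟨h, hhH, hgD⟩ : ∃ h ∈ H, h * g' * h⁻¹ ∈ D := by
    have hA : IsPGroup 3 (zpowers (⟨g', hg'H⟩ : H)) := IsPGroup.of_card (n := 1) (by
      rw [Nat.card_zpowers, Subgroup.orderOf_mk, hg'o, pow_one])
    obtain ⟨A, hA'⟩ := hA.exists_le_sylow
    have hB : IsPGroup 3 (D.subgroupOf H) := IsPGroup.of_card (n := 1) (by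
      rw [Nat.card_congr (subgroupOfEquivOfLe (inf_le_left : D ≤ H)).toEquiv, hDc, pow_one])
    obtain ⟨B, hB'⟩ := hB.exists_le_sylow
    have hBc : Nat.card B = 3 := by
      rw [B.card_eq_multiplicity, hH, hHc, show 4 * (4 - 1) = 2 ^ 2 * 3 from rfl,
        Nat.factorization_mul (by norm_num) (by norm_num), Finsupp.add_apply, Nat.factorization_pow,
        Nat.Prime.factorization Nat.prime_two, Nat.Prime.factorization Nat.prime_three]
      simp
    have hBeq : D.subgroupOf H = (B : Subgroup H) := Subgroup.eq_of_le_of_card_ge hB' (by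
      rw [hBc, Nat.card_congr (subgroupOfEquivOfLe (inf_le_left : D ≤ H)).toEquiv, hDc])
    obtain ⟨k, hk⟩ := MulAction.exists_smul_eq H A B
    refine ⟨k, k.2, ?_⟩
    have hm : k * (⟨g', hg'H⟩ : H) * k⁻¹ ∈ (B : Subgroup H) := by
      rw [← hk, Sylow.smul_def, Sylow.pointwise_smul_def,
        Subgroup.mem_pointwise_smul_iff_inv_smul_mem, ← map_inv, MulAut.smul_def, MulAut.conj_apply]
      simpa [mul_assoc] using hA' (mem_zpowers _)
    rw [← hBeq] at hm
    exact mem_subgroupOf.1 hm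
  set x := h * g' * h⁻¹ with hx
  have hxo : orderOf x = 3 := by rw [hx, ← MulAut.conj_apply, MulEquiv.orderOf_eq, hg'o]
  have hDx : D = zpowers x := (Subgroup.eq_of_le_of_card_ge (zpowers_le.2 hgD) (by
    rw [Nat.card_zpowers, hxo, hD, hDc])).symm
  have huinv : ∀ d ∈ D, u * d * u⁻¹ = d⁻¹ := hinvD
  have hu2 : u * u = 1 := by rw [← pow_two, ← hu, pow_orderOf_eq_one]
  have hCx : centralizer ({x} : Set (Y ⧸ R)) ≤ D := by
    intro y hy
    have hDC : D ≤ centralizer ({x} : Set (Y ⧸ R)) := by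
      rw [hDx, zpowers_le]; exact mem_centralizer_singleton_iff.2 rfl
    have hyN : y ∈ normalizer (D : Set (Y ⧸ R)) := by
      rw [mem_normalizer_iff, hDx]
      intro z
      rw [mem_centralizer_singleton_iff] at hy
      constructor
      · intro hz
        obtain ⟨i, rfl⟩ := mem_zpowers_iff.1 hz
        rw [((show Commute y x from hy).zpow_right i).eq, mul_inv_cancel_right]
        exact zpow_mem (mem_zpowers x) i
      · intro hz
        obtain ⟨i, hi⟩ := mem_zpowers_iff.1 hz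
        have : z = x ^ i := by
          calc z = y⁻¹ * (y * z * y⁻¹) * y := by group
            _ = y⁻¹ * (x ^ i * y) := by rw [← hi]; group
            _ = y⁻¹ * (y * x ^ i) := by rw [((show Commute y x from hy).zpow_right i).eq]
            _ = x ^ i := by group
        rw [this]
        exact zpow_mem (mem_zpowers x) i
    have hzu : zpowers u ≤ normalizer (D : Set (Y ⧸ R)) := by
      rw [zpowers_le, mem_normalizer_iff]
      intro z
      constructor
      · intro hz; rw [huinv z hz]; exact inv_mem hz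
      · intro hz
        have h1 := huinv _ hz
        have : z = (u * z * u⁻¹)⁻¹ := by
          rw [← h1]
          calc z = (u * u) * z * (u * u)⁻¹ := by rw [hu2]; group
            _ = u * (u * z * u⁻¹) * u⁻¹ := by group
        rw [this]; exact inv_mem hz
    rw [hND, ← SetLike.mem_coe, Subgroup.coe_mul_of_right_le_normalizer_left _ _ hzu] at hyN
    obtain ⟨d, hd, v, hv, rfl⟩ := Set.mem_mul.1 hyN
    obtain ⟨i, rfl⟩ := mem_zpowers_iff.1 hv
    rcases Int.even_or_odd i with ⟨j, hj⟩ | ⟨j, hj⟩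
    · have : u ^ i = 1 := by rw [hj, zpow_add, ← (Commute.refl u).mul_zpow, hu2, one_zpow]
      rw [this, mul_one]; exact hd
    · exfalso
      have hu' : u ^ i = u := by
        rw [hj, two_mul, zpow_add, zpow_add, zpow_one,
          show u ^ j * u ^ j = 1 by rw [← (Commute.refl u).mul_zpow, hu2, one_zpow], one_mul]
      rw [hu', mem_centralizer_singleton_iff] at hy
      have hdx : d⁻¹ * x = x * d⁻¹ := by
        have := mem_centralizer_singleton_iff.1 (hDC (inv_mem hd))
        exact this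
      have hux : u * x = x * u := by
        calc u * x = d⁻¹ * (d * u * x) := by group
          _ = d⁻¹ * (x * (d * u)) := by rw [hy]
          _ = d⁻¹ * x * d * u := by group
          _ = x * d⁻¹ * d * u := by rw [hdx]
          _ = x * u := by group
      have h := huinv x hgD
      rw [hux, mul_inv_cancel_right] at h
      have h2 : orderOf x ∣ 2 := orderOf_dvd_of_pow_eq_one (by
        rw [pow_two]; nth_rewrite 2 [h]; rw [mul_inv_cancel])
      rw [hxo] at h2
      exact absurd (Nat.le_of_dvd two_pos h2) (by norm_num)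
  have hC3 : Nat.card (centralizer ({g'} : Set (Y ⧸ R))) ≤ 3 := by
    rw [← card_centralizer_conj h g']
    exact (Nat.le_of_dvd Nat.card_pos (card_dvd_of_le hCx)).trans (le_of_eq hDc)
  refine ⟨?_, ?_⟩
  · let f : centralizer ({g} : Set Y) →* centralizer ({g'} : Set (Y ⧸ R)) :=
      (π.comp (centralizer ({g} : Set Y)).subtype).codRestrict _ fun c => by
        rw [mem_centralizer_singleton_iff]
        show π c * π g = π g * π c
        rw [← map_mul, ← map_mul, mem_centralizer_singleton_iff.1 c.2]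
    have hk : Nat.card f.ker ≤ 2 := by
      rw [← hR2]
      refine Nat.card_le_card_of_injective (fun c => (⟨((c : centralizer ({g} : Set Y)) : Y),
        (QuotientGroup.eq_one_iff _).1 (congrArg Subtype.val (MonoidHom.mem_ker.1 c.2))⟩ : R)) ?_
      intro a b hab
      exact Subtype.ext (Subtype.ext (congrArg (fun z : R => (z : Y)) hab))
    have hr : Nat.card f.range ≤ 3 :=
      (Nat.le_of_dvd Nat.card_pos (card_subgroup_dvd_card _)).trans hC3
    have h1 := f.ker.card_mul_index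
    rw [Subgroup.index_ker] at h1
    calc Nat.card (centralizer ({g} : Set Y)) = Nat.card f.ker * Nat.card f.range := h1.symm
      _ ≤ 2 * 3 := Nat.mul_le_mul hk hr
  · obtain ⟨y, hy⟩ := QuotientGroup.mk'_surjective R (h⁻¹ * u * h)
    have hyg : π (y * g * y⁻¹) = g'⁻¹ := by
      rw [map_mul, map_mul, map_inv, hy, ← hg']
      calc h⁻¹ * u * h * g' * (h⁻¹ * u * h)⁻¹ = h⁻¹ * (u * x * u⁻¹) * h := by rw [hx]; group
        _ = h⁻¹ * x⁻¹ * h := by rw [huinv x hgD]
        _ = g'⁻¹ := by rw [hx]; group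
    set r := y * g * y⁻¹ * g with hr
    have hrR : r ∈ R := by
      rw [← QuotientGroup.eq_one_iff]
      show π r = 1
      rw [hr, map_mul, hyg, ← hg', inv_mul_cancel]
    refine isConj_iff.2 ⟨y, ?_⟩
    have hr2 : r ^ 2 = 1 := by rw [pow_two]; exact hexp r (hRT hrR)
    have h3 : (y * g * y⁻¹) ^ 3 = 1 := by
      rw [conj_pow, ← hgo, pow_orderOf_eq_one]; group
    have h4 : r ^ 3 = 1 := by
      have e : r * g⁻¹ = y * g * y⁻¹ := by rw [hr]; group
      rw [← e, (show Commute r g⁻¹ from (mem_center_iff.1 (hRc hrR) g⁻¹).symm).mul_pow,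
        inv_pow, show g ^ 3 = 1 by rw [← hgo, pow_orderOf_eq_one], inv_one, mul_one] at h3
      exact h3
    have h5 : r = 1 := by
      rw [pow_succ, hr2, one_mul] at h4
      exact h4
    rw [hr] at h5
    exact mul_eq_one_iff_eq_inv.1 h5

end Abstract

section Main

variable {G : Type u} [Group G] [Fintype G] {M : Ideal Cfsg.AlgInt}

/-- The quotient of the centraliser of the fixed points by its odd core. -/
theorem quotient_facts (hM : Cfsg.IsPModular 2 M) (P : Sylow 2 G)
    (hexp : ∀ x ∈ (P : Subgroup G), x * x = 1)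
    (hCP : centralizer ((P : Subgroup G) : Set G) ≤ P)
    {χ : G → ℂ} (hχ : IsCharacter G χ) (hdeg : χ 1 = (Nat.card (P : Subgroup G) : ℂ) - 1)
    (hval : ∀ z ∈ (P : Subgroup G), z ≠ 1 → χ z = -1)
    (R : Subgroup G) (hRP : R ≤ P) (hlt : R ≠ (P : Subgroup G)) {g : G} {o : ℕ}
    (hg : g ∈ normalizer ((P : Subgroup G) : Set G)) (ho : o.Prime) (hodd : Odd o)
    (hgo : orderOf g = o) (hRg : ∀ r ∈ R, g * r = r * g)
    (hmax : ∀ z ∈ (P : Subgroup G), g * z = z * g → z ∈ R)
    (hfix : ∀ h ∈ normalizer ((P : Subgroup G) : Set G), (∀ r ∈ R, h * r = r * h) →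
      ∃ i : ℤ, h * (g ^ i)⁻¹ ∈ (P : Subgroup G))
    (hunit : ¬ Cfsg.MemLocalIdeal M (Cfsg.blockCoeff (Cfsg.principalBlock M G) g))
    (X : Subgroup G) (hX : X = centralizer (R : Set G)) :
    Nat.card (P : Subgroup G) - Nat.card R ≤ o * Nat.card R ∧
      (Nat.card (P : Subgroup G) = 8 → o = 3 → Nat.card R = 2 → ∀ gX : X, (gX : G) = g →
        Nat.card (centralizer ({QuotientGroup.mk' (Cfsg.pPrimeCore 2 X) gX} :
          Set (X ⧸ Cfsg.pPrimeCore 2 X))) ≤ 6 ∧
        IsConj (QuotientGroup.mk' (Cfsg.pPrimeCore 2 X) gX)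
          (QuotientGroup.mk' (Cfsg.pPrimeCore 2 X) gX)⁻¹) := by
  have : Fact (Nat.Prime 2) := ⟨Nat.prime_two⟩
  haveI : Fintype X := Fintype.ofFinite _
  have hcomm : ∀ a ∈ (P : Subgroup G), ∀ b ∈ (P : Subgroup G), a * b = b * a := fun a ha b hb => by
    have hai : a⁻¹ = a := inv_eq_of_mul_eq_one_right (hexp a ha)
    have hbi : b⁻¹ = b := inv_eq_of_mul_eq_one_right (hexp b hb)
    rw [← inv_eq_of_mul_eq_one_right (hexp _ (mul_mem ha hb)), mul_inv_rev, hai, hbi]
  have hXmem : ∀ x : G, x ∈ X ↔ ∀ r ∈ R, r * x = x * r := fun x => by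
    rw [hX, mem_centralizer_iff]; rfl
  have hPX : (P : Subgroup G) ≤ X := fun a ha =>
    (hXmem a).2 fun r hr => hcomm r (hRP hr) a ha
  have hgX : g ∈ X := (hXmem g).2 fun r hr => (hRg r hr).symm
  let PX : Sylow 2 X := P.subtype hPX
  have hPXmem : ∀ x : X, x ∈ (PX : Subgroup X) ↔ (x : G) ∈ (P : Subgroup G) := fun x => by
    show x ∈ (P.subtype hPX : Subgroup X) ↔ _
    rw [Sylow.coe_subtype]; exact mem_subgroupOf
  have hqX : Nat.card (PX : Subgroup X) = Nat.card (P : Subgroup G) := by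
    show Nat.card (P.subtype hPX : Subgroup X) = _
    rw [Sylow.coe_subtype, Nat.card_congr (subgroupOfEquivOfLe hPX).toEquiv]
  have hexpX : ∀ x ∈ (PX : Subgroup X), x * x = 1 := fun x hx =>
    Subtype.ext (hexp _ ((hPXmem x).1 hx))
  have hCPX : centralizer ((PX : Subgroup X) : Set X) ≤ PX := fun x hx => (hPXmem x).2 (hCP (by
    rw [mem_centralizer_iff]
    intro a ha
    exact congrArg Subtype.val (mem_centralizer_iff.1 hx ⟨a, hPX ha⟩ ((hPXmem _).2 ha))))
  set RX := R.subgroupOf X with hRX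
  have hRXP : RX ≤ PX := fun x hx => (hPXmem x).2 (hRP (mem_subgroupOf.1 hx))
  have hRXc : RX ≤ center X := fun r hr => mem_center_iff.2 fun x =>
    Subtype.ext ((hXmem x).1 x.2 r (mem_subgroupOf.1 hr)).symm
  have hltX : RX ≠ (PX : Subgroup X) := fun e => hlt (le_antisymm hRP fun a ha =>
    mem_subgroupOf.1 ((e ▸ (hPXmem ⟨a, hPX ha⟩).2 ha : (⟨a, hPX ha⟩ : X) ∈ RX)))
  -- elements of the normaliser inside
  have hfixX : ∀ h : X, h ∈ normalizer ((PX : Subgroup X) : Set X) →
      ∃ i : ℤ, (h : G) * (g ^ i)⁻¹ ∈ (P : Subgroup G) := by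
    intro h hh
    refine hfix h ?_ fun r hr => ((hXmem h).1 h.2 r hr).symm
    rw [mem_normalizer_iff]
    intro a
    constructor
    · intro ha
      exact (hPXmem (h * ⟨a, hPX ha⟩ * h⁻¹)).1 ((mem_normalizer_iff.1 hh _).1 ((hPXmem _).2 ha))
    · intro ha
      have hmem := (mem_normalizer_iff.1 (inv_mem hh) ⟨_, hPX ha⟩).1 ((hPXmem _).2 ha)
      have := (hPXmem _).1 hmem
      simp only [Subgroup.coe_mul, InvMemClass.coe_inv] at this
      simpa [mul_assoc] using this
  have h2 : ∀ z ∈ (PX : Subgroup X), z ∉ RX →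
      Cfsg.HasNormalPComplement 2 (centralizer ({z} : Set X)) := by
    intro z hz hzR
    refine hasNormalPComplement_of_centralizes PX (fun a ha => mem_centralizer_singleton_iff.2
      (Subtype.ext (hcomm _ ((hPXmem a).1 ha) _ ((hPXmem z).1 hz)))) fun h hh hhN => ?_
    have hP : (h : G) ∈ (P : Subgroup G) := by
      obtain ⟨i, hi⟩ := hfixX h hhN
      have hzG := (hPXmem z).1 hz
      have hhz : (h : G) * z = z * h := congrArg Subtype.val (mem_centralizer_singleton_iff.1 hh)
      have hgi : g ^ i * (z : G) = (z : G) * g ^ i := by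
        have h1 := hcomm _ hi _ hzG
        calc g ^ i * (z : G) = ((h : G) * (g ^ i)⁻¹)⁻¹ * ((h : G) * z) := by group
          _ = ((h : G) * (g ^ i)⁻¹)⁻¹ * ((z : G) * ((h : G) * (g ^ i)⁻¹)) * g ^ i := by rw [hhz]; group
          _ = ((h : G) * (g ^ i)⁻¹)⁻¹ * ((h : G) * (g ^ i)⁻¹ * z) * g ^ i := by rw [h1]
          _ = (z : G) * g ^ i := by group
      by_cases hoi : (o : ℤ) ∣ i
      · have : g ^ i = 1 := by rw [← orderOf_dvd_iff_zpow_eq_one, hgo]; exact hoi
        rwa [this, inv_one, mul_one] at hi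
      · exfalso
        refine hzR (mem_subgroupOf.2 (hmax _ hzG ?_))
        obtain ⟨a, b, hab⟩ := Int.isCoprime_iff_gcd_eq_one.2 (show Int.gcd i o = 1 by
          rcases ho.eq_one_or_self_of_dvd (Int.gcd i o) (by exact_mod_cast Int.gcd_dvd_right i (o : ℤ)) with h' | h'
          · exact h'
          · exact absurd (h' ▸ Int.gcd_dvd_left i (o : ℤ)) hoi)
        have hgpow : g = (g ^ i) ^ a := by
          have hgo1 : g ^ ((o : ℤ) * b) = 1 := by
            rw [zpow_mul, zpow_natCast, ← hgo, pow_orderOf_eq_one, one_zpow]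
          calc g = g ^ (a * i + b * o) := by rw [hab, zpow_one]
            _ = g ^ (i * a) * g ^ ((o : ℤ) * b) := by rw [← zpow_add]; congr 1; ring
            _ = (g ^ i) ^ a := by rw [hgo1, mul_one, zpow_mul]
        rw [hgpow]
        exact (Commute.zpow_left (show Commute (g ^ i) (z : G) from hgi) a).eq
    exact mem_centralizer_iff.2 fun a ha => Subtype.ext (hcomm _ ((hPXmem a).1 ha) _ hP)
  set χX : X → ℂ := fun x => χ x with hχX
  have hdegX : χX 1 = (Nat.card (PX : Subgroup X) : ℂ) - 1 := by rw [hqX]; exact hdeg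
  have hvalX : ∀ z ∈ (PX : Subgroup X), z ≠ 1 → χX z = -1 := fun z hz h1 =>
    hval _ ((hPXmem z).1 hz) fun e => h1 (Subtype.ext e)
  have hOdd : ∀ z ∈ (PX : Subgroup X), z ∉ RX → ∀ y ∈ centralizer ({z} : Set X),
      Odd (orderOf y) → y ∈ Cfsg.oddCore X := fun z hz hzR y hy hyo =>
    odd_centralizer_le_core hM PX hexpX hCPX RX hRXP hRXc hltX h2 (Char.isCharacter_res X hχ)
      hdegX hvalX hz hzR hy hyo
  -- the quotient
  set O := Cfsg.pPrimeCore 2 X with hO
  set π := QuotientGroup.mk' O with hπ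
  have hOodd : (Nat.card O).Coprime 2 := (Core.coprime_card_pPrimeCore (G := X) (p := 2))
  have hker : (Nat.card π.ker).Coprime 2 := by rwa [hπ, QuotientGroup.ker_mk']
  have hinj : ∀ x ∈ (PX : Subgroup X), π x = 1 → x = 1 := by
    intro x hx h1
    have hxO : x ∈ O := (QuotientGroup.eq_one_iff x).1 h1
    rw [← orderOf_eq_one_iff]
    obtain ⟨e, he⟩ := IsPGroup.iff_card.1 PX.isPGroup'
    exact Nat.eq_one_of_dvd_coprimes (hOodd.symm.pow_left e)
      (he ▸ orderOf_dvd_natCard (PX : Subgroup X) hx) (orderOf_dvd_natCard O hxO)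
  let T : Sylow 2 (X ⧸ O) := PX.mapSurjective (QuotientGroup.mk'_surjective O)
  have hTeq : (T : Subgroup (X ⧸ O)) = (PX : Subgroup X).map π := Sylow.coe_mapSurjective _ _
  set RY := RX.map π with hRY
  have hRYT : RY ≤ T := hTeq ▸ map_mono hRXP
  have hRYc : RY ≤ center (X ⧸ O) := by
    rintro _ ⟨r, hr, rfl⟩
    rw [mem_center_iff]
    intro y
    obtain ⟨x, rfl⟩ := QuotientGroup.mk'_surjective O y
    rw [← map_mul, ← map_mul, mem_center_iff.1 (hRXc hr) x]
  have hexpT : ∀ x ∈ (T : Subgroup (X ⧸ O)), x * x = 1 := by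
    intro x hx
    rw [hTeq] at hx
    obtain ⟨a, ha, rfl⟩ := hx
    rw [← map_mul, hexpX a ha, map_one]
  have hRYmem : ∀ a ∈ (PX : Subgroup X), π a ∈ RY → a ∈ RX := by
    rintro a ha ⟨r, hr, hra⟩
    have h1 : a * r⁻¹ = 1 := hinj _ (mul_mem ha (inv_mem (hRXP hr))) (by
      rw [map_mul, map_inv, hra, mul_inv_cancel])
    rwa [mul_inv_eq_one.1 h1]
  have hCY : ∀ y ∈ (T : Subgroup (X ⧸ O)), y ∉ RY → centralizer ({y} : Set (X ⧸ O)) ≤ T := by
    intro y hy hyR
    rw [hTeq] at hy
    obtain ⟨z, hz, rfl⟩ := hy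
    have hzR : z ∉ RX := fun h => hyR ⟨z, h, rfl⟩
    have hzp : IsPGroup 2 (zpowers z) := PX.isPGroup'.to_le (zpowers_le.2 hz)
    have hmap := Layer.map_centralizer_of_coprime (QuotientGroup.mk'_surjective O) hker hzp
    intro c hc
    have hc' : c ∈ centralizer (((zpowers z).map π : Subgroup (X ⧸ O)) : Set (X ⧸ O)) := by
      rw [MonoidHom.map_zpowers, mem_centralizer_iff]
      intro b hb
      obtain ⟨i, rfl⟩ := mem_zpowers_iff.1 hb
      exact ((show Commute (π z) c from (mem_centralizer_singleton_iff.1 hc).symm).zpow_left i).eq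
    rw [← hmap] at hc'
    obtain ⟨x, hx, rfl⟩ := hc'
    have hxz : x ∈ centralizer ({z} : Set X) :=
      centralizer_le (Set.singleton_subset_iff.2 (mem_zpowers z)) hx
    obtain ⟨K, hK, -, hKP⟩ := exists_oddPart _ (h2 z hz hzR)
    have hPle : (PX : Subgroup X) ≤ centralizer ({z} : Set X) := fun a ha =>
      mem_centralizer_singleton_iff.2 (Subtype.ext (hcomm _ ((hPXmem a).1 ha) _ ((hPXmem z).1 hz)))
    have hxs := hKP (PX : Subgroup X) hPle (factorization_eq_of_le PX hPle) hxz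
    have hle : K ⊔ (PX : Subgroup X) ≤ (T : Subgroup (X ⧸ O)).comap π := by
      refine sup_le (fun k hk => ?_) (fun a ha => ?_)
      · rw [mem_comap, show π k = 1 from (QuotientGroup.eq_one_iff k).2
          (hOdd z hz hzR k ((hK k).1 hk).1 ((hK k).1 hk).2)]
        exact one_mem _
      · rw [mem_comap, hTeq]; exact ⟨a, ha, rfl⟩
    exact hle hxs
  have hgN : (⟨g, hgX⟩ : X) ∈ normalizer ((PX : Subgroup X) : Set X) := by
    rw [mem_normalizer_iff]
    intro a
    rw [hPXmem, hPXmem]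
    exact mem_normalizer_iff.1 hg a
  have hgN' : π ⟨g, hgX⟩ ∈ normalizer ((T : Subgroup (X ⧸ O)) : Set (X ⧸ O)) := by
    rw [hTeq]
    exact le_normalizer_map π ⟨_, hgN, rfl⟩
  have hgne : π ⟨g, hgX⟩ ≠ 1 := by
    intro h1
    have hgO : (⟨g, hgX⟩ : X) ∈ O := (QuotientGroup.eq_one_iff _).1 h1
    have hgC : (⟨g, hgX⟩ : X) ∈ centralizer ((PX : Subgroup X) : Set X) := by
      rw [mem_centralizer_iff]
      intro a ha
      have hc1 : (⟨g, hgX⟩ : X) * a * (⟨g, hgX⟩ : X)⁻¹ * a⁻¹ ∈ (PX : Subgroup X) :=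
        mul_mem ((mem_normalizer_iff.1 hgN a).1 ha) (inv_mem ha)
      have hc2 : π ((⟨g, hgX⟩ : X) * a * (⟨g, hgX⟩ : X)⁻¹ * a⁻¹) = 1 := by
        rw [map_mul, map_mul, map_mul, map_inv, map_inv, h1]; group
      have h := hinj _ hc1 hc2
      rw [mul_inv_eq_one, mul_inv_eq_iff_eq_mul] at h
      exact h.symm
    have hgP := (hPXmem _).1 (hCPX hgC)
    have hdvd : o ∣ 2 := hgo ▸ orderOf_dvd_of_pow_eq_one (by rw [pow_two]; exact hexp g hgP)
    rw [(Nat.prime_dvd_prime_iff_eq ho Nat.prime_two).1 hdvd] at hodd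
    exact absurd hodd (by decide)
  -- the Sylow subgroup is not normal in the quotient
  have hnn : ¬ (T : Subgroup (X ⧸ O)).Normal := by
    intro hTn
    apply hunit
    haveI : Fintype (X ⧸ O) := Fintype.ofFinite _
    have hTcen : centralizer ((T : Subgroup (X ⧸ O)) : Set (X ⧸ O)) ≤ T := by
      rw [hTeq, ← Layer.map_centralizer_of_coprime (QuotientGroup.mk'_surjective O) hker PX.isPGroup']
      exact map_mono hCPX
    have hcore : centralizer ((Cfsg.pCore 2 (X ⧸ O)) : Set (X ⧸ O)) ≤ Cfsg.pCore 2 (X ⧸ O) :=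
      (centralizer_le (Core.le_pCore T.isPGroup')).trans (hTcen.trans (Core.le_pCore T.isPGroup'))
    have hall : ∀ ψ : IrrCharacter (X ⧸ O), ψ ∈ Cfsg.principalBlock M (X ⧸ O) := fun ψ =>
      BlockThms.sameBlock_of_pCoreSelfCentral hM hcore (triv (X ⧸ O)) ψ
    let infl : IrrCharacter (X ⧸ O) → IrrCharacter X := fun ψ =>
      ⟨_, Char.isIrrCharacter_mk O ψ.2⟩
    have hinjI : Function.Injective infl := fun a b h => Subtype.ext (funext fun q => by
      obtain ⟨x, rfl⟩ := QuotientGroup.mk_surjective q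
      exact congrFun (congrArg Subtype.val h) x)
    have hmem : ∀ ψ : IrrCharacter (X ⧸ O), infl ψ ∈ Cfsg.principalBlock M X := fun ψ =>
      BlockThms.sameBlock_comp_mk O hM (triv (X ⧸ O)) ψ (hall ψ)
    have hO2 : ¬ 2 ∣ Nat.card O := Nat.prime_two.coprime_iff_not_dvd.1 hOodd.symm
    have hzero : Cfsg.blockCoeff (Cfsg.principalBlock M X) (⟨g, hgX⟩ : X) = 0 := by
      rw [Cfsg.blockCoeff, finsum_mem_eq_finite_toFinset_sum _ (Set.toFinite _)]
      have hs : ∑ ψ : IrrCharacter (X ⧸ O),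
          (ψ : X ⧸ O → ℂ) 1 * conj ((ψ : X ⧸ O → ℂ) (π ⟨g, hgX⟩)) = 0 := by
        rw [Char.second_orthogonality, if_neg]
        rw [isConj_one_right]
        exact hgne
      rw [← Finset.sum_bij (s := Finset.univ) (fun ψ _ => infl ψ)
        (fun ψ _ => (Set.Finite.mem_toFinset _).2 (hmem ψ)) (fun a _ b _ h => hinjI h)
        (fun φ hφ => by
          obtain ⟨ψ, he, -⟩ := BlockThms.exists_inflated O hM hO2 (triv (X ⧸ O)) φ
            ((Set.Finite.mem_toFinset _).1 hφ)
          exact ⟨ψ, Finset.mem_univ _, Subtype.ext he.symm⟩)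
        (fun ψ _ => rfl : ∀ ψ ∈ (Finset.univ : Finset (IrrCharacter (X ⧸ O))),
          (ψ : X ⧸ O → ℂ) 1 * conj ((ψ : X ⧸ O → ℂ) (π ⟨g, hgX⟩)) =
            (infl ψ : X → ℂ) 1 * conj ((infl ψ : X → ℂ) ⟨g, hgX⟩)), hs, mul_zero]
    subst hX
    have h3 := BlockChar.blockCoeff_principal_congr hM R (P.isPGroup'.to_le hRP) ⟨g, hgX⟩
    rw [hzero, sub_zero] at h3
    exact h3
  have hfusY : ∀ a ∈ (PX : Subgroup X), ∀ b ∈ (PX : Subgroup X), IsConj (π a) (π b) →
      ∃ i : ℤ, g ^ i * (a : G) * (g ^ i)⁻¹ = b := by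
    intro a ha b hb hab
    obtain ⟨w, hw⟩ := isConj_iff.1 hab
    obtain ⟨n, hn, hn'⟩ := Fusion.exists_mem_normalizer_conj_of_isMulCommutative (P := T)
      ⟨⟨fun x y => Subtype.ext (by
        have hxi : (x : X ⧸ O)⁻¹ = x := inv_eq_of_mul_eq_one_right (hexpT _ x.2)
        have hyi : (y : X ⧸ O)⁻¹ = y := inv_eq_of_mul_eq_one_right (hexpT _ y.2)
        show (x : X ⧸ O) * y = y * x
        rw [← inv_eq_of_mul_eq_one_right (hexpT _ (mul_mem x.2 y.2)), mul_inv_rev, hxi, hyi])⟩⟩
      (show π a ∈ (T : Subgroup (X ⧸ O)) by rw [hTeq]; exact ⟨a, ha, rfl⟩) w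
      (by rw [hw]; show π b ∈ (T : Subgroup (X ⧸ O)); rw [hTeq]; exact ⟨b, hb, rfl⟩)
    rw [hw] at hn'
    have hn2 : n ∈ normalizer (((PX : Subgroup X).map π : Subgroup (X ⧸ O)) : Set (X ⧸ O)) := by
      rw [← hTeq]; exact hn
    rw [← Layer.map_normalizer_of_coprime (QuotientGroup.mk'_surjective O) hker PX.isPGroup'] at hn2
    obtain ⟨x, hx, rfl⟩ := hn2
    rw [← map_inv, ← map_mul, ← map_mul] at hn'
    have hxa : x * a * x⁻¹ ∈ (PX : Subgroup X) := (mem_normalizer_iff.1 hx a).1 ha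
    have he : x * a * x⁻¹ * b⁻¹ = 1 := hinj _ (mul_mem hxa (inv_mem hb)) (by
      rw [map_mul π (x * a * x⁻¹), hn', map_inv, mul_inv_cancel])
    rw [mul_inv_eq_one] at he
    obtain ⟨i, hi⟩ := hfixX x hx
    refine ⟨i, ?_⟩
    have heG : (x : G) * a * (x : G)⁻¹ = b := congrArg Subtype.val he
    have h1 := hcomm _ hi _ ((hPXmem _).1 hxa)
    calc g ^ i * (a : G) * (g ^ i)⁻¹
        = ((x : G) * (g ^ i)⁻¹)⁻¹ * (((x * a * x⁻¹ : X) : G)) * ((x : G) * (g ^ i)⁻¹) := by
          simp only [Subgroup.coe_mul, InvMemClass.coe_inv]; group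
      _ = ((x * a * x⁻¹ : X) : G) := by
          rw [mul_assoc, ← h1]; group
      _ = b := by rw [he]
  rcases normal_or_isConj T hexpT RY hRYT hRYc hCY with hn | hall
  · exact absurd hn hnn
  refine ⟨?_, fun hq8 ho3 hR2 gX hgX' => ?_⟩
  · obtain ⟨a, ha, haR⟩ := Set.not_subset.1 (fun h => hlt (le_antisymm hRP h) :
      ¬ ((P : Subgroup G) : Set G) ⊆ (R : Set G))
    have haX : (⟨a, hPX ha⟩ : X) ∈ (PX : Subgroup X) := (hPXmem _).2 ha
    have hsub : ((P : Subgroup G) : Set G) \ (R : Set G) ⊆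
        (fun p : zpowers g × R => (p.1 : G) * a * (p.1 : G)⁻¹ * p.2) '' Set.univ := by
      rintro b ⟨hb, hbR⟩
      have hbX : (⟨b, hPX hb⟩ : X) ∈ (PX : Subgroup X) := (hPXmem _).2 hb
      obtain ⟨r', ⟨r, hr, rfl⟩, hconj⟩ := hall (π ⟨a, hPX ha⟩) (hTeq ▸ ⟨_, haX, rfl⟩)
        (fun h => haR (mem_subgroupOf.1 (hRYmem _ haX h))) (π ⟨b, hPX hb⟩) (hTeq ▸ ⟨_, hbX, rfl⟩)
        (fun h => hbR (mem_subgroupOf.1 (hRYmem _ hbX h)))
      rw [← map_mul] at hconj
      obtain ⟨i, hi⟩ := hfusY _ haX _ (mul_mem hbX (hRXP hr)) hconj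
      refine ⟨(⟨g ^ i, zpow_mem (mem_zpowers g) i⟩, ⟨r, mem_subgroupOf.1 hr⟩), trivial, ?_⟩
      show g ^ i * a * (g ^ i)⁻¹ * (r : G) = b
      rw [show g ^ i * a * (g ^ i)⁻¹ = b * (r : G) from hi, mul_assoc,
        hexp _ ((hPXmem r).1 (hRXP hr)), mul_one]
    have h1 := (Set.ncard_le_ncard hsub (Set.toFinite _)).trans (Set.ncard_image_le (Set.toFinite _))
    rw [Set.ncard_sdiff hRP (Set.toFinite _), Set.ncard_univ, Nat.card_prod, Nat.card_zpowers, hgo,
      ← Nat.card_coe_set_eq, ← Nat.card_coe_set_eq] at h1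
    exact h1
  · have hT8 : Nat.card (T : Subgroup (X ⧸ O)) = 8 := by
      rw [← hq8, ← hqX, hTeq]
      refine (Nat.card_congr (Equiv.ofBijective
        (fun x : (PX : Subgroup X) => (⟨π x, x, x.2, rfl⟩ : (PX : Subgroup X).map π))
        ⟨fun a b h => ?_, ?_⟩)).symm
      · refine Subtype.ext (mul_inv_eq_one.1 (hinj _ (mul_mem a.2 (inv_mem b.2)) ?_))
        rw [map_mul, map_inv, show π (a : X) = π b from congrArg Subtype.val h, mul_inv_cancel]
      · rintro ⟨_, x, hx, rfl⟩
        exact ⟨⟨x, hx⟩, rfl⟩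
    have hRY2 : Nat.card RY = 2 := by
      refine Eq.trans ?_ ((Nat.card_congr (subgroupOfEquivOfLe (le_trans hRP hPX)).toEquiv).trans hR2)
      refine (Nat.card_congr (Equiv.ofBijective
        (fun x : RX => (⟨π x, x, x.2, rfl⟩ : RX.map π)) ⟨fun a b h => ?_, ?_⟩)).symm
      · refine Subtype.ext (mul_inv_eq_one.1 (hinj _ (mul_mem (hRXP a.2) (inv_mem (hRXP b.2))) ?_))
        rw [map_mul, map_inv, show π (a : X) = π b from congrArg Subtype.val h, mul_inv_cancel]
      · rintro ⟨_, x, hx, rfl⟩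
        exact ⟨⟨x, hx⟩, rfl⟩
    have hgXeq : gX = ⟨g, hgX⟩ := Subtype.ext hgX'
    subst hgXeq
    refine three_facts T hexpT RY hRYT hRYc hRY2 hT8 hCY hnn ?_ hgN' ?_
    · rintro y hy hyR _ ⟨r, hr, rfl⟩ hr1 hconj
      rw [hTeq] at hy
      obtain ⟨z, hz, rfl⟩ := hy
      rw [← map_mul] at hconj
      obtain ⟨i, hi⟩ := hfusY z hz _ (mul_mem hz (hRXP hr)) hconj
      have hr2 : (r : G) * r = 1 := hexp _ ((hPXmem r).1 (hRXP hr))
      have hgr : g ^ i * (r : G) = (r : G) * g ^ i :=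
        ((show Commute g (r : G) from hRg _ (mem_subgroupOf.1 hr)).zpow_left i).eq
      have hiter : ∀ k : ℕ, (g ^ i) ^ k * (z : G) * ((g ^ i) ^ k)⁻¹ = (z : G) * (r : G) ^ k := by
        intro k
        induction k with
        | zero => simp
        | succ k ih =>
          rw [pow_succ', show g ^ i * (g ^ i) ^ k * (z : G) * (g ^ i * (g ^ i) ^ k)⁻¹ =
            g ^ i * ((g ^ i) ^ k * (z : G) * ((g ^ i) ^ k)⁻¹) * (g ^ i)⁻¹ by group, ih,
            show g ^ i * ((z : G) * (r : G) ^ k) * (g ^ i)⁻¹ =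
              g ^ i * (z : G) * (g ^ i)⁻¹ * (g ^ i * (r : G) ^ k * (g ^ i)⁻¹) by group, hi,
            ((show Commute (g ^ i) (r : G) from hgr).pow_right k).eq, mul_inv_cancel_right,
            Subgroup.coe_mul, mul_assoc, ← pow_succ']
      have h3 := hiter o
      rw [← zpow_natCast (g ^ i) o, ← zpow_mul, mul_comm, zpow_mul, zpow_natCast, ← hgo,
        pow_orderOf_eq_one, one_zpow, one_mul, inv_one, mul_one, hgo, ho3] at h3
      rw [pow_succ, pow_two, hr2, one_mul, left_eq_mul] at h3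
      exact hr1 (by rw [show r = 1 from Subtype.ext h3, map_one])
    · refine orderOf_eq_prime (hp := ⟨Nat.prime_three⟩) ?_ hgne
      rw [← map_pow, show (⟨g, hgX⟩ : X) ^ 3 = 1 from Subtype.ext (by
        rw [SubgroupClass.coe_pow, ← ho3, ← hgo, pow_orderOf_eq_one]; rfl), map_one]

end Main

end Cfsg.Agent.EqualDrop
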