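import Cfsg.Agent.EqualDrop.Basic
import Cfsg.Agent.Blocks.SecondMain
import Cfsg.Agent.Blocks.Principal
import Cfsg.Agent.S0947
import Cfsg.Agent.S4735

/-!
# The configuration with an element of order three and Sylow order eight

The values at the product of the involution and the element of order three are integers with small
square sum, and the degrees do not allow them.
-/

set_option autoImplicit false

namespace Cfsg.Agent.EqualDrop

open scoped ComplexConjugate
open scoped _root_.Classical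
open Cfsg Cfsg.Agent Cfsg.Agent.Blocks Subgroup

universe u

/-- The arithmetic of degrees and values. -/
theorem three_arith {ι : Type*} (s : Finset ι) (d : ι → ℕ) (a : ι → ℤ)
    (hd : ∀ i ∈ s, 7 ≤ d i) (h7 : ∀ i ∈ s, d i = 7 → (3 : ℤ) ∣ a i + 1)
    (hdeg : ∑ i ∈ s, (d i : ℤ) * ((d i : ℤ) - 8) = -1)
    (horth : ∑ i ∈ s, (d i : ℤ) * a i = -1) (hnorm : ∑ i ∈ s, a i ^ 2 ≤ 5) : False := by
  rw [← Finset.sum_filter_add_sum_filter_not s (fun i => d i = 7)] at hdeg horth hnorm
  set A := s.filter (fun i => d i = 7) with hA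
  set B := s.filter (fun i => ¬ d i = 7) with hB
  have hB8 : ∀ i ∈ B, 8 ≤ d i := fun i hi => by
    have h1 := hd i (Finset.mem_filter.1 hi).1
    have h2 := (Finset.mem_filter.1 hi).2
    omega
  have hA7 : ∀ i ∈ A, (d i : ℤ) = 7 := fun i hi => by rw [(Finset.mem_filter.1 hi).2]; rfl
  rw [Finset.sum_congr rfl (fun i hi => by rw [hA7 i hi] :
    ∀ i ∈ A, (d i : ℤ) * ((d i : ℤ) - 8) = 7 * (7 - 8))] at hdeg
  rw [Finset.sum_congr rfl (fun i hi => by rw [hA7 i hi] :
    ∀ i ∈ A, (d i : ℤ) * a i = 7 * a i), ← Finset.mul_sum] at horth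
  simp only [Finset.sum_const, nsmul_eq_mul] at hdeg
  have hne : ∀ i ∈ A, 1 ≤ a i ^ 2 ∧ (a i = -1 ∨ 4 ≤ a i ^ 2) := fun i hi => by
    obtain ⟨c, hc⟩ := h7 i (Finset.mem_filter.1 hi).1 (Finset.mem_filter.1 hi).2
    by_cases hc0 : c = 0
    · subst hc0
      have : a i = -1 := by omega
      rw [this]
      exact ⟨by norm_num, Or.inl rfl⟩
    · have h4 : 4 ≤ a i ^ 2 := by
        rcases lt_trichotomy (a i) (-1) with h | h | h
        · nlinarith
        · omega
        · nlinarith [show 2 ≤ a i by omega]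
      exact ⟨by omega, Or.inr h4⟩
  have hnA : (A.card : ℤ) ≤ ∑ i ∈ A, a i ^ 2 := by
    have h := Finset.card_nsmul_le_sum A (fun i => a i ^ 2) 1 fun i hi => (hne i hi).1
    simpa using h
  have hBsq : 0 ≤ ∑ i ∈ B, a i ^ 2 := Finset.sum_nonneg fun i _ => sq_nonneg _
  have hterm0 : ∀ i ∈ B, (0 : ℤ) ≤ (d i : ℤ) * ((d i : ℤ) - 8) := fun i hi => by
    have := hB8 i hi
    exact mul_nonneg (by positivity) (by omega)
  -- small values of the sum over the large degrees
  have hBsum : ∑ i ∈ B, (d i : ℤ) * ((d i : ℤ) - 8) = 7 * (A.card : ℤ) - 1 := by linarith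
  have hsingle : ∀ i ∈ B, (d i : ℤ) * ((d i : ℤ) - 8) ≤ 7 * (A.card : ℤ) - 1 := fun i hi =>
    hBsum ▸ Finset.single_le_sum hterm0 hi
  have hA3 : 3 ≤ A.card := by
    by_contra hlt
    have h9 : ∀ i ∈ B, (9 : ℤ) ∣ (d i : ℤ) * ((d i : ℤ) - 8) := fun i hi => by
      have h1 := hsingle i hi
      have h2 : (A.card : ℤ) ≤ 2 := by omega
      have h8 := hB8 i hi
      have h10 : d i < 10 := by
        by_contra hge
        have hge' : (10 : ℤ) ≤ d i := by exact_mod_cast not_lt.1 hge
        nlinarith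
      interval_cases hdi : d i <;> norm_num
    have h := Finset.dvd_sum h9
    rw [hBsum] at h
    obtain ⟨c, hc⟩ := h
    omega
  have hAm : ∀ i ∈ A, a i = -1 := fun i hi => by
    rcases (hne i hi).2 with h | h
    · exact h
    exfalso
    have h1 := Finset.card_nsmul_le_sum (A.erase i) (fun i => a i ^ 2) 1
      fun j hj => (hne j (Finset.mem_of_mem_erase hj)).1
    rw [Finset.card_erase_of_mem hi, nsmul_eq_mul, mul_one] at h1
    have h2 := Finset.add_sum_erase A (fun i => a i ^ 2) hi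
    push_cast [Nat.cast_sub (show 1 ≤ A.card by omega)] at h1
    have h3 : (3 : ℤ) ≤ A.card := by exact_mod_cast hA3
    linarith
  rw [Finset.sum_congr rfl hAm, Finset.sum_const, nsmul_eq_mul] at horth
  have hsqA : ∑ i ∈ A, a i ^ 2 = A.card := by
    rw [Finset.sum_congr rfl (fun i hi => by rw [hAm i hi]; norm_num : ∀ i ∈ A, a i ^ 2 = 1)]
    simp
  rw [hsqA] at hnorm
  have hBlin : ∑ i ∈ B, (d i : ℤ) * a i = 7 * (A.card : ℤ) - 1 := by linarith
  have hA5 : A.card ≤ 5 := by
    have : (A.card : ℤ) ≤ 5 := by linarith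
    exact_mod_cast this
  rcases (show A.card = 3 ∨ A.card = 4 ∨ A.card = 5 by omega) with h | h | h
  all_goals rw [h] at hnorm hBlin hBsum hsingle
  · -- two more units
    have hd10 : ∀ i ∈ B, d i ≤ 10 := fun i hi => by
      have h1 := hsingle i hi
      norm_num at h1
      by_contra hge
      have hge' : (11 : ℤ) ≤ d i := by exact_mod_cast not_le.1 hge
      nlinarith
    have hle : ∀ i ∈ B, (d i : ℤ) * a i ≤ 10 * a i ^ 2 := fun i hi => by
      have h1 : (d i : ℤ) ≤ 10 := by exact_mod_cast hd10 i hi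
      rcases le_or_gt (a i) 0 with h2 | h2
      · nlinarith [sq_nonneg (a i), show (0 : ℤ) ≤ d i by positivity]
      · nlinarith
    have heq : ∀ i ∈ B, (d i : ℤ) * a i = 10 * a i ^ 2 := by
      refine (Finset.sum_eq_sum_iff_of_le hle).1 (le_antisymm (Finset.sum_le_sum hle) ?_)
      rw [hBlin, ← Finset.mul_sum]
      norm_num at hnorm ⊢
      linarith
    have hge : ∀ i ∈ B, 20 * a i ^ 2 ≤ (d i : ℤ) * ((d i : ℤ) - 8) := fun i hi => by
      have h1 : (d i : ℤ) ≤ 10 := by exact_mod_cast hd10 i hi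
      have h2 := heq i hi
      rcases eq_or_ne (a i) 0 with h3 | h3
      · rw [h3]; simpa using hterm0 i hi
      · have h4 : (d i : ℤ) = 10 * a i := by
          refine mul_right_cancel₀ h3 ?_
          linear_combination h2
        have h5 : (8 : ℤ) ≤ d i := by exact_mod_cast hB8 i hi
        have h6 : a i = 1 := by omega
        rw [h6] at h4 ⊢
        rw [h4]; norm_num
    have h1 := Finset.sum_le_sum hge
    rw [← Finset.mul_sum, hBsum] at h1
    have h2 := Finset.sum_congr rfl heq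
    rw [← Finset.mul_sum, hBlin] at h2
    norm_num at h1 h2
    linarith
  · have hd10 : ∀ i ∈ B, d i ≤ 10 := fun i hi => by
      have h1 := hsingle i hi
      norm_num at h1
      by_contra hge
      have hge' : (11 : ℤ) ≤ d i := by exact_mod_cast not_le.1 hge
      nlinarith
    have hle : ∀ i ∈ B, (d i : ℤ) * a i ≤ 10 * a i ^ 2 := fun i hi => by
      have h1 : (d i : ℤ) ≤ 10 := by exact_mod_cast hd10 i hi
      rcases le_or_gt (a i) 0 with h2 | h2
      · nlinarith [sq_nonneg (a i), show (0 : ℤ) ≤ d i by positivity]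
      · nlinarith
    have h1 := Finset.sum_le_sum hle
    rw [hBlin, ← Finset.mul_sum] at h1
    norm_num at hnorm h1
    linarith
  · have h0 : ∀ i ∈ B, a i = 0 := fun i hi => by
      have h1 := Finset.single_le_sum (f := fun i => a i ^ 2) (fun j _ => sq_nonneg (a j)) hi
      norm_num at hnorm
      have : a i ^ 2 = 0 := le_antisymm (by linarith) (sq_nonneg _)
      exact pow_eq_zero_iff two_ne_zero |>.1 this
    rw [Finset.sum_eq_zero fun i hi => by rw [h0 i hi, mul_zero]] at hBlin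
    norm_num at hBlin

variable {G : Type u} [Group G] [Fintype G] {M : Ideal Cfsg.AlgInt}

/-- The order eight configuration does not occur. -/
theorem three_false (hM : Cfsg.IsPModular 2 M) (P : Sylow 2 G) (hq : Nat.card (P : Subgroup G) = 8)
    (hexp : ∀ x ∈ (P : Subgroup G), x * x = 1)
    (hdrop : ∀ χ ∈ prinRest M G, ∀ s : G, orderOf s = 2 →
      (χ : G → ℂ) s = (χ : G → ℂ) 1 - (Nat.card (P : Subgroup G) : ℂ))
    (hlow : ∀ χ ∈ prinRest M G, Nat.card (P : Subgroup G) ≤ charDegree (χ : G → ℂ) + 1)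
    {g t : G} (hg : g ∈ normalizer ((P : Subgroup G) : Set G)) (hgo : orderOf g = 3)
    (ht : t ∈ (P : Subgroup G)) (ht1 : t ≠ 1) (hgt : g * t = t * g)
    (hfixed : ∀ z ∈ (P : Subgroup G), g * z = z * g → z = 1 ∨ z = t)
    (hgC : g ∈ centralizer ({t} : Set G))
    (hsix : Nat.card (centralizer ({QuotientGroup.mk'
        (Cfsg.pPrimeCore 2 (centralizer ({t} : Set G))) (⟨g, hgC⟩ : centralizer ({t} : Set G))} :
          Set ((centralizer ({t} : Set G)) ⧸ Cfsg.pPrimeCore 2 (centralizer ({t} : Set G))))) ≤ 6)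
    (hreal : IsConj (QuotientGroup.mk' (Cfsg.pPrimeCore 2 (centralizer ({t} : Set G)))
        (⟨g, hgC⟩ : centralizer ({t} : Set G)))
      (QuotientGroup.mk' (Cfsg.pPrimeCore 2 (centralizer ({t} : Set G)))
        (⟨g, hgC⟩ : centralizer ({t} : Set G)))⁻¹) : False := by
  have : Fact (Nat.Prime 2) := ⟨Nat.prime_two⟩
  set H := centralizer ({t} : Set G) with hH
  haveI : Fintype H := Fintype.ofFinite _
  have hcomm : ∀ a ∈ (P : Subgroup G), ∀ b ∈ (P : Subgroup G), a * b = b * a := fun a ha b hb => by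
    have hai : a⁻¹ = a := inv_eq_of_mul_eq_one_right (hexp a ha)
    have hbi : b⁻¹ = b := inv_eq_of_mul_eq_one_right (hexp b hb)
    rw [← inv_eq_of_mul_eq_one_right (hexp _ (mul_mem ha hb)), mul_inv_rev, hai, hbi]
  have hto : orderOf t = 2 := orderOf_eq_prime (by rw [pow_two]; exact hexp t ht) ht1
  have htinv : t⁻¹ = t := inv_eq_of_mul_eq_one_right (hexp t ht)
  have htp : ∃ k, orderOf t = 2 ^ k := ⟨1, by rw [hto, pow_one]⟩
  set gH : H := ⟨g, hgC⟩ with hgH
  have hgodd : ¬ 2 ∣ orderOf gH := by rw [Subgroup.orderOf_mk, hgo]; norm_num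
  have hgiodd : ¬ 2 ∣ orderOf gH⁻¹ := by rw [orderOf_inv]; exact hgodd
  -- the values are real
  set O := Cfsg.pPrimeCore 2 H with hO
  have hO2 : ¬ 2 ∣ Nat.card O :=
    Nat.prime_two.coprime_iff_not_dvd.1 (Core.coprime_card_pPrimeCore (G := H) (p := 2)).symm
  have hψreal : ∀ ψ ∈ Cfsg.principalBlock M H, (ψ : H → ℂ) gH⁻¹ = (ψ : H → ℂ) gH := by
    intro ψ hψ
    obtain ⟨φ, he, -⟩ := BlockThms.exists_inflated O hM hO2 (triv (H ⧸ O)) ψ hψ
    rw [he]
    show (φ : H ⧸ O → ℂ) (QuotientGroup.mk' O gH⁻¹) = (φ : H ⧸ O → ℂ) (QuotientGroup.mk' O gH)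
    rw [map_inv]
    exact (Char.classFun_isConj (Char.isClassFunction_of_isIrr φ.2) hreal).symm
  have hHmem : ∀ c : G, c ∈ H ↔ t * c = c * t := fun c => by
    rw [hH, mem_centralizer_singleton_iff]; exact eq_comm
  have hHmem' : ∀ c : G, c ∈ H ↔ ∀ w ∈ zpowers t, w * c = c * w := by
    intro c
    rw [hHmem]
    exact ⟨fun h w ⟨i, hi⟩ => hi ▸ ((show Commute t c from h).zpow_left i).eq,
      fun h => h t (mem_zpowers t)⟩
  have hind := inducing_principalBlock (G := G) hM
    (IsPGroup.of_card (n := 1) (by rw [Nat.card_zpowers, hto, pow_one]) : IsPGroup 2 (zpowers t)) hHmem'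
  set S := (Set.toFinite (Cfsg.principalBlock M G)).toFinset with hS
  have hval : ∀ χ ∈ Cfsg.principalBlock M G, (χ : G → ℂ) (t * g⁻¹) = (χ : G → ℂ) (t * g) := by
    intro χ hχ
    have hsec : ∀ a b : H, (a = gH ∨ a = gH⁻¹) → (b = gH ∨ b = gH⁻¹) →
        ∑ χ ∈ S, (χ : G → ℂ) (t * (a : G)) * conj ((χ : G → ℂ) (t * (b : G))) =
          ∑ᶠ ψ ∈ Cfsg.principalBlock M H, (ψ : H → ℂ) gH * conj ((ψ : H → ℂ) gH) := by
      intro a b ha hb
      have hao : ¬ 2 ∣ orderOf a := by rcases ha with rfl | rfl <;> assumption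
      have hbo : ¬ 2 ∣ orderOf b := by rcases hb with rfl | rfl <;> assumption
      rw [← finsum_mem_eq_finite_toFinset_sum (fun χ : IrrCharacter G =>
          (χ : G → ℂ) (t * (a : G)) * conj ((χ : G → ℂ) (t * (b : G))))
          (Set.toFinite (Cfsg.principalBlock M G)),
        section_identity hM htp hHmem (isPBlock_principalBlock M) hao hbo, hind]
      refine finsum_congr fun ψ => finsum_congr fun hψ => ?_
      rcases ha with rfl | rfl <;> rcases hb with rfl | rfl <;> simp only [hψreal ψ hψ]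
    have e1 := hsec gH gH (Or.inl rfl) (Or.inl rfl)
    have e2 := hsec gH gH⁻¹ (Or.inl rfl) (Or.inr rfl)
    have e3 := hsec gH⁻¹ gH (Or.inr rfl) (Or.inl rfl)
    have e4 := hsec gH⁻¹ gH⁻¹ (Or.inr rfl) (Or.inr rfl)
    simp only [InvMemClass.coe_inv, hgH] at e1 e2 e3 e4
    have hz : ∑ φ ∈ S, Complex.normSq ((φ : G → ℂ) (t * g⁻¹) - (φ : G → ℂ) (t * g)) = 0 := by
      have : ∑ φ ∈ S, ((φ : G → ℂ) (t * g⁻¹) - (φ : G → ℂ) (t * g)) *
          conj ((φ : G → ℂ) (t * g⁻¹) - (φ : G → ℂ) (t * g)) = 0 := by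
        simp only [map_sub, sub_mul, mul_sub, Finset.sum_sub_distrib]
        rw [e1, e2, e3, e4]; ring
      simp only [Complex.mul_conj] at this
      exact_mod_cast this
    exact sub_eq_zero.1 (Complex.normSq_eq_zero.1 ((Finset.sum_eq_zero_iff_of_nonneg
      fun φ _ => Complex.normSq_nonneg _).1 hz χ ((Set.toFinite _).mem_toFinset.2 hχ)))
  -- and integers
  have hgtc : Commute t g := hgt.symm
  have hord6 : (t * g) ^ 6 = 1 := by
    rw [hgtc.mul_pow, pow_mul t 2 3, pow_two, hexp t ht, one_pow, one_mul, pow_mul g 3 2,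
      ← hgo, pow_orderOf_eq_one, one_pow]
  have hinv : (t * g)⁻¹ = t * g⁻¹ := by
    rw [mul_inv_rev, htinv]
    exact ((hgtc.inv_right).eq).symm
  have hint : ∀ χ ∈ Cfsg.principalBlock M G, ∃ a : ℤ, (χ : G → ℂ) (t * g) = (a : ℂ) := by
    intro χ hχ
    have hc := Char.IsIrr.isCharacter χ.2
    obtain ⟨r, hr⟩ := Char.exists_rat_of_fixed Nat.card_pos.ne' (Char.IsChar.mem_cycField hc (t * g))
      fun k σ hk hσ => by
        rw [Char.galois_apply_pow σ hσ hc (orderOf_dvd_natCard _)]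
        have h2 : ¬ 2 ∣ k := fun h => by
          have h' : 2 ∣ Nat.card G := hto ▸ orderOf_dvd_natCard t
          have := Nat.dvd_gcd h h'
          rw [hk] at this
          omega
        have h3 : ¬ 3 ∣ k := fun h => by
          have h' : 3 ∣ Nat.card G := hgo ▸ orderOf_dvd_natCard g
          have := Nat.dvd_gcd h h'
          rw [hk] at this
          omega
        rcases (show k % 6 = 1 ∨ k % 6 = 5 by omega) with h | h
        · rw [pow_eq_pow_mod k hord6, h, pow_one]
        · rw [pow_eq_pow_mod k hord6, h, show (t * g) ^ 5 = (t * g)⁻¹ from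
            eq_inv_of_mul_eq_one_left (by rw [← pow_succ]; exact hord6), hinv, hval χ hχ]
    exact Blocks.exists_int_of_isIntegral_rat (Char.IsChar.isIntegral hc _) r hr
  choose! a ha using hint
  -- the norm bound
  have hnorm : ∑ χ ∈ prinRest M G, a χ ^ 2 ≤ 5 := by
    obtain ⟨h47, -⟩ := S0947.result 2 M hM t htp ht1 gH hgodd
    obtain ⟨-, -, h35, -⟩ := S4735.result 2 M hM gH
    have hsum : ∑ᶠ ζ ∈ Cfsg.principalBlock M G, ‖(ζ : G → ℂ) (t * g)‖ ^ 2 ≤ (6 : ℝ) := by
      have h47' : ∑ᶠ ζ ∈ Cfsg.principalBlock M G, ‖(ζ : G → ℂ) (t * g)‖ ^ 2 =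
          ∑ᶠ ψ ∈ Cfsg.principalBlock M H, ‖(ψ : H → ℂ) gH‖ ^ 2 := h47
      rw [h47']
      simp only [Complex.normSq_eq_norm_sq] at h35
      exact h35.trans (by exact_mod_cast hsix)
    rw [finsum_mem_eq_finite_toFinset_sum _ (Set.toFinite _)] at hsum
    have h1 : ∑ χ ∈ prinFin M G, ((a χ : ℝ)) ^ 2 ≤ 6 := by
      refine le_trans (le_of_eq (Finset.sum_congr rfl fun χ hχ => ?_)) hsum
      rw [ha χ (mem_prinFin.1 hχ), Complex.norm_intCast, sq_abs]
    rw [← Finset.add_sum_erase _ _ (mem_prinFin.2 (triv_mem_principalBlock (G := G) hM))] at h1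
    have h0 : a (triv G) = 1 := by
      have h := ha (triv G) (triv_mem_principalBlock hM)
      rw [show (triv G : G → ℂ) (t * g) = 1 from rfl] at h
      exact_mod_cast h.symm
    rw [h0] at h1
    push_cast at h1
    have h2 : ((∑ χ ∈ prinRest M G, a χ ^ 2 : ℤ) : ℝ) ≤ 5 := by
      rw [prinRest]
      push_cast
      linarith
    exact_mod_cast h2
  -- orthogonality with degrees
  have h1p : pPartOf 2 (1 : G) = 1 := (pPartOf_eq_one_iff Nat.prime_two _).2 (by simp)
  have htp' : pPartOf 2 (t * g) = t :=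
    (parts_mul Nat.prime_two hgtc htp (by rw [hgo]; norm_num)).1
  have htt : pPartOf 2 t = t := by
    have := (parts_mul Nat.prime_two (Commute.one_right t) htp (by simp)).1
    rwa [mul_one] at this
  have horth : ∑ χ ∈ prinRest M G, (charDegree (χ : G → ℂ) : ℤ) * a χ = -1 := by
    have h := orth hM 1 (t * g) (by rw [h1p, htp', htinv, isConj_one_right]; exact ht1)
    rw [sum_prinFin hM, Finset.sum_congr rfl fun (χ : IrrCharacter G) hχ => show (χ : G → ℂ) 1 * (χ : G → ℂ) (t * g) =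
      (((charDegree (χ : G → ℂ) : ℤ) * a χ : ℤ) : ℂ) by
        rw [ha χ (mem_prinRest.1 hχ).1, degree_eq]; push_cast; ring] at h
    simp only [triv, mul_one, ← Int.cast_sum] at h
    have h' : ((1 + ∑ χ ∈ prinRest M G, (charDegree (χ : G → ℂ) : ℤ) * a χ : ℤ) : ℂ) = 0 := by
      push_cast at h ⊢; exact h
    rw [Int.cast_eq_zero] at h'
    omega
  have hdeg : ∑ χ ∈ prinRest M G,
      (charDegree (χ : G → ℂ) : ℤ) * ((charDegree (χ : G → ℂ) : ℤ) - 8) = -1 := by
    have h := orth hM 1 t (by rw [h1p, htt, htinv, isConj_one_right]; exact ht1)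
    rw [sum_prinFin hM, Finset.sum_congr rfl fun (χ : IrrCharacter G) hχ => show (χ : G → ℂ) 1 * (χ : G → ℂ) t =
      (((charDegree (χ : G → ℂ) : ℤ) * ((charDegree (χ : G → ℂ) : ℤ) - 8) : ℤ) : ℂ) by
        rw [hdrop χ hχ t hto, degree_eq, hq]; push_cast; ring] at h
    simp only [triv, mul_one, ← Int.cast_sum] at h
    have h' : ((1 + ∑ χ ∈ prinRest M G, (charDegree (χ : G → ℂ) : ℤ) *
        ((charDegree (χ : G → ℂ) : ℤ) - 8) : ℤ) : ℂ) = 0 := by
      push_cast at h ⊢; exact h
    rw [Int.cast_eq_zero] at h'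
    omega
  -- the congruence modulo three
  refine three_arith (prinRest M G) (fun χ => charDegree (χ : G → ℂ)) a
    (fun χ hχ => by have := hlow χ hχ; omega) (fun χ hχ hd => ?_) hdeg horth hnorm
  set N := normalizer ((P : Subgroup G) : Set G) with hN
  haveI : Fintype N := Fintype.ofFinite _
  have hPN : (P : Subgroup G) ≤ N := le_normalizer
  haveI : ((P : Subgroup G).subgroupOf N).Normal := ⟨fun p hp n => mem_subgroupOf.2
    ((mem_normalizer_iff.1 n.2 _).1 (mem_subgroupOf.1 hp))⟩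
  obtain ⟨ψ, hψc, hψ⟩ := exists_fixed_part (Char.isCharacter_res N (Char.IsIrr.isCharacter χ.2))
    ((P : Subgroup G).subgroupOf N)
  have hsumP : ∀ y : N, ∑ p : (P : Subgroup G), (χ : G → ℂ) ((p : G) * y) = 8 * ψ y := by
    intro y
    rw [← show (Nat.card ((P : Subgroup G).subgroupOf N) : ℂ) = 8 by
        rw [Nat.card_congr (subgroupOfEquivOfLe hPN).toEquiv, hq]; norm_num,
      ← hψ y, ← Equiv.sum_comp (subgroupOfEquivOfLe hPN).toEquiv]
    rfl
  have hψ0 : ψ 1 = 0 := by
    have h := hsumP 1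
    simp only [OneMemClass.coe_one, mul_one] at h
    rw [← Finset.add_sum_erase _ _ (Finset.mem_univ (1 : (P : Subgroup G))), OneMemClass.coe_one,
      Finset.sum_congr rfl (fun (p : (P : Subgroup G)) hp => hdrop χ hχ p
        (orderOf_eq_prime (by rw [pow_two]; exact hexp p p.2)
          (fun e => (Finset.mem_erase.1 hp).1 (Subtype.ext e)))),
      Finset.sum_const, Finset.card_erase_of_mem (Finset.mem_univ _), Finset.card_univ,
      ← Nat.card_eq_fintype_card, hq, degree_eq, hd, nsmul_eq_mul] at h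
    have h8 : (8 : ℂ) * ψ 1 = 0 := by rw [← h]; norm_num
    exact (mul_eq_zero.1 h8).resolve_left (by norm_num)
  have hψg : ψ ⟨g, hg⟩ = 0 := by
    have h := Char.IsChar.norm_le hψc ⟨g, hg⟩
    rw [hψ0, Complex.zero_re] at h
    exact norm_le_zero_iff.1 h
  -- the commutators with the element of order three
  let Ψ : (P : Subgroup G) →* (P : Subgroup G) :=
    { toFun := fun p => ⟨(p : G) * (g * (p : G)⁻¹ * g⁻¹),
        mul_mem p.2 ((mem_normalizer_iff.1 hg _).1 (inv_mem p.2))⟩
      map_one' := Subtype.ext (show (1 : G) * (g * (1 : G)⁻¹ * g⁻¹) = 1 by group)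
      map_mul' := fun p r => Subtype.ext (by
        show (p : G) * r * (g * ((p : G) * r)⁻¹ * g⁻¹) =
          (p : G) * (g * (p : G)⁻¹ * g⁻¹) * ((r : G) * (g * (r : G)⁻¹ * g⁻¹))
        have h1 : g * ((r : G)⁻¹ * (p : G)⁻¹) * g⁻¹ =
            g * (r : G)⁻¹ * g⁻¹ * (g * (p : G)⁻¹ * g⁻¹) := by group
        have h2 := hcomm _ ((mem_normalizer_iff.1 hg _).1 (inv_mem r.2)) _
          ((mem_normalizer_iff.1 hg _).1 (inv_mem p.2))
        have h3 := hcomm _ r.2 _ ((mem_normalizer_iff.1 hg _).1 (inv_mem p.2))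
        rw [mul_inv_rev, h1, h2]
        calc (p : G) * r * (g * (p : G)⁻¹ * g⁻¹ * (g * (r : G)⁻¹ * g⁻¹))
            = (p : G) * ((r : G) * (g * (p : G)⁻¹ * g⁻¹)) * (g * (r : G)⁻¹ * g⁻¹) := by group
          _ = (p : G) * ((g * (p : G)⁻¹ * g⁻¹) * r) * (g * (r : G)⁻¹ * g⁻¹) := by rw [h3]
          _ = _ := by group) }
  have hΨ : ∀ p : (P : Subgroup G), ((Ψ p : (P : Subgroup G)) : G) * g = p * g * (p : G)⁻¹ := fun p => by
    show (p : G) * (g * (p : G)⁻¹ * g⁻¹) * g = _
    group
  have hker : Nat.card Ψ.ker = 2 := by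
    have hk : ∀ p : (P : Subgroup G), p ∈ Ψ.ker ↔ (p : G) = 1 ∨ (p : G) = t := by
      intro p
      rw [MonoidHom.mem_ker]
      constructor
      · intro h
        refine hfixed p p.2 ?_
        have h1 := hΨ p
        rw [h, OneMemClass.coe_one, one_mul] at h1
        calc g * p = (p : G) * g * (p : G)⁻¹ * p := by rw [← h1]
          _ = p * g := by group
      · rintro (h | h) <;> refine Subtype.ext ?_ <;> show (p : G) * (g * (p : G)⁻¹ * g⁻¹) = 1 <;> rw [h]
        · group
        · rw [htinv, hgt, mul_inv_cancel_right, hexp t ht]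
    have hcard : ((Ψ.ker : Set (P : Subgroup G))) = {1, ⟨t, ht⟩} := by
      ext p
      rw [SetLike.mem_coe, hk, Set.mem_insert_iff, Set.mem_singleton_iff, Subtype.ext_iff,
        Subtype.ext_iff]
      rfl
    rw [← SetLike.coe_sort_coe, hcard, Nat.card_coe_set_eq,
      Set.ncard_pair fun e => ht1 (congrArg Subtype.val e).symm]
  have hrange : Nat.card Ψ.range = 4 := by
    have h := Ψ.ker.card_mul_index
    rw [Subgroup.index_ker, hker, hq] at h
    omega
  have htW : ∀ w ∈ Ψ.range, (w : G) ≠ t := by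
    rintro _ ⟨p, rfl⟩ h
    have h1 := hΨ p
    rw [h] at h1
    have h2 : ((p : G) * g * (p : G)⁻¹) ^ 3 = 1 := by
      rw [conj_pow, show g ^ 3 = 1 by rw [← hgo, pow_orderOf_eq_one]]; group
    rw [← h1, hgtc.mul_pow, show g ^ 3 = 1 by rw [← hgo, pow_orderOf_eq_one], mul_one, pow_succ,
      pow_two, hexp t ht, one_mul] at h2
    exact ht1 h2
  let e : Ψ.range × Bool → (P : Subgroup G) := fun x =>
    (x.1 : (P : Subgroup G)) * (if x.2 then ⟨t, ht⟩ else 1)
  have he : Function.Bijective e := by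
    refine (Nat.bijective_iff_injective_and_card e).2 ⟨?_, ?_⟩
    · rintro ⟨w, b⟩ ⟨w', b'⟩ h
      cases b <;> cases b'
      · simp only [e, Bool.false_eq_true, if_false, mul_one] at h
        exact Prod.ext (Subtype.ext h) rfl
      · simp only [e, Bool.false_eq_true, if_false, mul_one, if_true] at h
        exfalso
        refine htW _ (w'⁻¹ * w).2 ?_
        rw [Subgroup.coe_mul, InvMemClass.coe_inv, h, inv_mul_cancel_left]
      · simp only [e, Bool.false_eq_true, if_false, mul_one, if_true] at h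
        exfalso
        refine htW _ (w⁻¹ * w').2 ?_
        rw [Subgroup.coe_mul, InvMemClass.coe_inv, ← h, inv_mul_cancel_left]
      · simp only [e, if_true] at h
        exact Prod.ext (Subtype.ext (mul_right_cancel h)) rfl
    · rw [Nat.card_prod, hrange, hq, Nat.card_eq_fintype_card, Fintype.card_bool]
  have hsum : (χ : G → ℂ) g + (χ : G → ℂ) (t * g) = 0 := by
    have h := hsumP ⟨g, hg⟩
    rw [hψg, mul_zero, ← Equiv.sum_comp (Equiv.ofBijective e he)] at h
    have hterm : ∀ x : Ψ.range × Bool,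
        (χ : G → ℂ) (((Equiv.ofBijective e he x : (P : Subgroup G)) : G) * g) =
          if x.2 then (χ : G → ℂ) (t * g) else (χ : G → ℂ) g := by
      rintro ⟨⟨w, p, rfl⟩, b⟩
      show (χ : G → ℂ) (((Ψ p * if b then ⟨t, ht⟩ else 1 : (P : Subgroup G)) : G) * g) = _
      cases b
      · simp only [Bool.false_eq_true, if_false, mul_one, hΨ]
        exact Char.isClassFunction_of_isIrr χ.2 g p
      · simp only [if_true, Subgroup.coe_mul]
        rw [hcomm _ (Ψ p).2 t ht, mul_assoc, hΨ,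
          show t * ((p : G) * g * (p : G)⁻¹) = t * (p : G) * g * (p : G)⁻¹ by group,
          hcomm t ht _ p.2, show (p : G) * t * g * (p : G)⁻¹ = (p : G) * (t * g) * (p : G)⁻¹ by group]
        exact Char.isClassFunction_of_isIrr χ.2 (t * g) p
    rw [Finset.sum_congr rfl fun x _ => hterm x, Fintype.sum_prod_type] at h
    simp only [Fintype.sum_bool, if_true, Bool.false_eq_true, if_false, Finset.sum_const,
      Finset.card_univ, ← Nat.card_eq_fintype_card, hrange, nsmul_eq_mul] at h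
    push_cast at h
    linear_combination (1 / 4 : ℂ) * h
  obtain ⟨M3, hM3⟩ := Blocks.exists_isPModular 3 Nat.prime_three
  have hcong := memLocalIdeal_char_sub_degree hM3 (Char.IsIrr.isCharacter χ.2) (g := g)
    ⟨1, by rw [hgo, pow_one]⟩
  have hval : (χ : G → ℂ) g - (χ : G → ℂ) 1 = ((-a χ - 7 : ℤ) : ℂ) := by
    rw [ha χ (mem_prinRest.1 hχ).1] at hsum
    have hd' : (χ : G → ℂ) 1 = 7 := by rw [degree_eq, hd]; norm_num
    rw [hd']
    push_cast
    linear_combination hsum
  rw [hval, memLocalIdeal_intCast_iff hM3] at hcong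
  omega

end Cfsg.Agent.EqualDrop
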