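import Cfsg.Agent.EqualDrop.Global
import Cfsg.Agent.EqualDrop.Fusion
import Cfsg.Agent.EqualDrop.Split
import Cfsg.Agent.EqualDrop.Three
import Cfsg.Agent.Char.Linear
import Cfsg.Agent.S1230

/-!
# Groups with trivial odd core and constant difference of degree and value

Such a group has order two or is a two-dimensional special linear group in characteristic two.
-/

set_option autoImplicit false

namespace Cfsg.Agent.EqualDrop

open scoped ComplexConjugate
open scoped _root_.Classical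
open Cfsg Cfsg.Agent Cfsg.Agent.Blocks Subgroup

universe u

variable {G : Type u} [Group G] [Fintype G] {M : Ideal Cfsg.AlgInt}

/-- The square of a sum is congruent to the sum of the squares. -/
theorem memLocalIdeal_sq_sum_sub (hM : Cfsg.IsPModular 2 M) (x : G) (s : Finset (IrrCharacter G)) :
    Cfsg.MemLocalIdeal M ((∑ χ ∈ s, (χ : G → ℂ) x) ^ 2 - ∑ χ ∈ s, (χ : G → ℂ) x ^ 2) := by
  induction s using Finset.induction with
  | empty => simpa using memLocalIdeal_zero hM
  | insert a s ha ih =>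
    rw [Finset.sum_insert ha, Finset.sum_insert ha]
    have h2 : Cfsg.MemLocalIdeal M (((2 : ℕ) : ℂ)) := (memLocalIdeal_natCast_iff hM 2).2 dvd_rfl
    have h3 := memLocalIdeal_mul_left hM ((localRing hM).mul_mem
      (memLocalRing_char hM (Char.IsIrr.isCharacter a.2) x) (memLocalRing_sum_char hM s x)) h2
    convert memLocalIdeal_add hM h3 ih using 1
    push_cast
    ring

/-- The idempotent of the principal block is a unit at odd elements centralising an involution. -/
theorem not_memLocalIdeal_blockCoeff (hM : Cfsg.IsPModular 2 M) (P : Sylow 2 G)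
    (hdrop : ∀ χ ∈ prinRest M G, ∀ s : G, orderOf s = 2 →
      (χ : G → ℂ) s = (χ : G → ℂ) 1 - (Nat.card (P : Subgroup G) : ℂ))
    {g s : G} (hs : orderOf s = 2) (hgs : Commute s g) (hg : ¬ 2 ∣ orderOf g) :
    ¬ Cfsg.MemLocalIdeal M (Cfsg.blockCoeff (Cfsg.principalBlock M G) g) := by
  have : Fact (Nat.Prime 2) := ⟨Nat.prime_two⟩
  set x := g⁻¹ with hx
  have hxo : ¬ 2 ∣ orderOf x := by rwa [hx, orderOf_inv]
  have hxs : Commute s x := hgs.inv_right
  have hsp : ∃ k, orderOf s = 2 ^ k := ⟨1, by rw [hs, pow_one]⟩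
  have hs1 : s ≠ 1 := fun e => by rw [e, orderOf_one] at hs; omega
  have hps : pPartOf 2 s = s := by
    have := (parts_mul Nat.prime_two (Commute.one_right s) hsp (by simp)).1
    rwa [mul_one] at this
  obtain ⟨hpsx, hqsx⟩ := parts_mul Nat.prime_two hxs hsp hxo
  have hpx : pPartOf 2 x = 1 := (pPartOf_eq_one_iff Nat.prime_two x).2 hxo
  have o1 := orth hM s x (by rw [hps, hpx, inv_one, isConj_one_left]; exact hs1)
  have o2 := orth hM x (s * x) (by rw [hpx, hpsx, isConj_one_right, inv_eq_one]; exact hs1)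
  set θ := ∑ χ ∈ prinRest M G, (χ : G → ℂ) x with hθ
  have hsq : Cfsg.MemLocalIdeal M (1 + ∑ χ ∈ prinRest M G, (χ : G → ℂ) x ^ 2) := by
    have h := memLocalIdeal_sum hM (prinFin M G)
      (f := fun χ : IrrCharacter G => (χ : G → ℂ) x * ((χ : G → ℂ) x - (χ : G → ℂ) (s * x)))
      fun χ _ => memLocalIdeal_mul_left hM (memLocalRing_char hM (Char.IsIrr.isCharacter χ.2) x) (by
        have h1 := memLocalIdeal_char_sub_pPrimePart hM (Char.IsIrr.isCharacter χ.2) (s * x)
        rwa [hqsx] at h1)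
    simp only [mul_sub, Finset.sum_sub_distrib, o2, sub_zero] at h
    rw [sum_prinFin hM] at h
    simpa [triv, pow_two] using h
  have hθn : ¬ Cfsg.MemLocalIdeal M θ := fun h => by
    refine not_memLocalIdeal_one (p := 2) hM ?_
    have h1 := memLocalIdeal_mul_left hM (memLocalRing_sum_char hM (prinRest M G) x) h
    rw [← hθ, ← pow_two] at h1
    have h2 := memLocalIdeal_sub hM (memLocalIdeal_add hM hsq (memLocalIdeal_sq_sum_sub hM x
      (prinRest M G))) h1
    rw [← hθ] at h2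
    convert h2 using 1
    ring
  have hk : ∀ χ ∈ prinRest M G,
      (χ : G → ℂ) 1 - (χ : G → ℂ) s = (Nat.card (P : Subgroup G) : ℂ) := fun χ hχ => by
    rw [hdrop χ hχ s hs, sub_sub_cancel]
  have hsum : ∑ χ ∈ prinFin M G, (χ : G → ℂ) 1 * (χ : G → ℂ) x =
      (Nat.card (P : Subgroup G) : ℂ) * θ := by
    have h := drop_mul_sum hM hk (fun χ => (χ : G → ℂ) x)
    simp only [sub_mul, Finset.sum_sub_distrib, o1, sub_zero] at h
    exact h
  have hcoeff : Cfsg.blockCoeff (Cfsg.principalBlock M G) g =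
      ((P : Subgroup G).index : ℂ)⁻¹ * θ := by
    rw [Cfsg.blockCoeff, finsum_mem_eq_finite_toFinset_sum
      (fun χ : IrrCharacter G => (χ : G → ℂ) 1 * conj ((χ : G → ℂ) g))
      (Set.toFinite (Cfsg.principalBlock M G))]
    simp only [conj_apply_eq_apply_inv, ← hx]
    rw [show (Set.toFinite (Cfsg.principalBlock M G)).toFinset = prinFin M G from rfl, hsum,
      ← (P : Subgroup G).card_mul_index, Nat.cast_mul, mul_inv]
    have hq : (Nat.card (P : Subgroup G) : ℂ) ≠ 0 := Nat.cast_ne_zero.2 Nat.card_pos.ne'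
    field_simp
  intro h
  refine hθn ?_
  have h1 := memLocalIdeal_mul_left hM (memLocalRing_natCast hM (P : Subgroup G).index) h
  rwa [hcoeff, ← mul_assoc, mul_inv_cancel₀ (Nat.cast_ne_zero.2 Subgroup.index_ne_zero_of_finite),
    one_mul] at h1

theorem small_exponent {r o : ℕ} (hr : 2 ≤ r) (ho : Odd o) (ho2 : 2 ≤ o)
    (h : r ^ o - r ≤ o * r) : r = 2 ∧ o = 3 := by
  obtain ⟨k, rfl⟩ : ∃ k, o = k + 3 := ⟨o - 3, by obtain ⟨a, rfl⟩ := ho; omega⟩
  have h1 : r ^ (k + 3) = r ^ (k + 2) * r := pow_succ r (k + 2)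
  have h2 : r ^ (k + 2) ≤ k + 4 := by
    refine Nat.le_of_mul_le_mul_right ?_ (show 0 < r by omega)
    rw [← h1, show (k + 4) * r = (k + 3) * r + r by ring]
    omega
  have h3 : 2 ^ (k + 2) ≤ k + 4 := (Nat.pow_le_pow_left hr _).trans h2
  have h4 : k + 1 ≤ 2 ^ k := k.lt_two_pow_self
  have h5 : 2 ^ (k + 2) = 4 * 2 ^ k := by ring
  obtain rfl : k = 0 := by omega
  refine ⟨?_, rfl⟩
  by_contra hr2
  have := Nat.pow_le_pow_left (show 3 ≤ r by omega) 2
  simp only [Nat.zero_add] at h2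
  omega

/-- No element of odd prime order normalising the Sylow subgroup fixes one of its involutions. -/
theorem no_fixer (hM : Cfsg.IsPModular 2 M) (P : Sylow 2 G)
    (hexp : ∀ x ∈ (P : Subgroup G), x * x = 1)
    (hCP : centralizer ((P : Subgroup G) : Set G) ≤ P)
    (htrans : ∀ a ∈ (P : Subgroup G), ∀ b ∈ (P : Subgroup G), a ≠ 1 → b ≠ 1 →
      ∃ n ∈ normalizer ((P : Subgroup G) : Set G), n * a * n⁻¹ = b)
    (hdrop : ∀ χ ∈ prinRest M G, ∀ s : G, orderOf s = 2 →
      (χ : G → ℂ) s = (χ : G → ℂ) 1 - (Nat.card (P : Subgroup G) : ℂ))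
    (hlow : ∀ χ ∈ prinRest M G, Nat.card (P : Subgroup G) ≤ charDegree (χ : G → ℂ) + 1)
    {χ : G → ℂ} (hχ : IsCharacter G χ) (hdeg : χ 1 = (Nat.card (P : Subgroup G) : ℂ) - 1)
    (hval : ∀ z ∈ (P : Subgroup G), z ≠ 1 → χ z = -1)
    {g t : G} {o : ℕ} (hg : g ∈ normalizer ((P : Subgroup G) : Set G)) (ht : t ∈ (P : Subgroup G))
    (ht1 : t ≠ 1) (hgt : g * t = t * g) (ho : o.Prime) (hodd : Odd o) : orderOf g ≠ o := by
  intro hgo
  have : Fact (Nat.Prime 2) := ⟨Nat.prime_two⟩
  obtain ⟨hcard, hfix⟩ := exists_fixer P hexp hCP htrans hg ho hodd hgo ht ht1 hgt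
  set R := (P : Subgroup G) ⊓ centralizer ({g} : Set G) with hR
  have hmemR : ∀ z, z ∈ R ↔ z ∈ (P : Subgroup G) ∧ g * z = z * g := fun z => by
    rw [hR, mem_inf, mem_centralizer_singleton_iff]
    exact and_congr_right fun _ => eq_comm
  have htR : t ∈ R := (hmemR t).2 ⟨ht, hgt⟩
  have hR2 : 2 ≤ Nat.card R := Finite.one_lt_card_iff_nontrivial.2
    ⟨⟨⟨t, htR⟩, 1, fun e => ht1 (congrArg Subtype.val e)⟩⟩
  have hto : orderOf t = 2 := orderOf_eq_prime (by rw [pow_two]; exact hexp t ht) ht1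
  have hg2 : ¬ 2 ∣ orderOf g := by rw [hgo]; exact hodd.not_two_dvd_nat
  have hlt : R ≠ (P : Subgroup G) := by
    intro e
    have hgC : g ∈ (P : Subgroup G) := hCP (mem_centralizer_iff.2 fun a ha =>
      (((hmemR a).1 (e.symm ▸ ha)).2).symm)
    have h2 : orderOf g ∣ 2 := orderOf_dvd_of_pow_eq_one (by rw [pow_two]; exact hexp g hgC)
    rw [hgo, Nat.prime_dvd_prime_iff_eq ho Nat.prime_two] at h2
    rw [h2] at hodd
    exact absurd hodd (by decide)
  have hunit := not_memLocalIdeal_blockCoeff hM P hdrop hto (show Commute t g from hgt.symm) hg2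
  have h1 := (quotient_facts hM P hexp hCP hχ hdeg hval R inf_le_left hlt hg ho hodd hgo
    (fun r hr => ((hmemR r).1 hr).2) (fun z hz hzg => (hmemR z).2 ⟨hz, hzg⟩) hfix hunit _ rfl).1
  rw [← hcard] at h1
  obtain ⟨hr, ho3⟩ := small_exponent hR2 hodd ho.two_le h1
  have hq8 : Nat.card (P : Subgroup G) = 8 := by rw [← hcard, hr, ho3]; norm_num
  have hRt : ∀ z ∈ R, z = 1 ∨ z = t := by
    intro z hz
    obtain ⟨y, -, hy⟩ := (Nat.card_eq_two_iff' (1 : R)).1 hr
    by_cases hz1 : z = 1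
    · exact Or.inl hz1
    · exact Or.inr (congrArg Subtype.val ((hy ⟨z, hz⟩ fun e => hz1 (congrArg Subtype.val e)).trans
        (hy ⟨t, htR⟩ fun e => ht1 (congrArg Subtype.val e)).symm))
  have hX : centralizer ({t} : Set G) = centralizer (R : Set G) := by
    ext c
    rw [mem_centralizer_singleton_iff, mem_centralizer_iff]
    refine ⟨fun h z hz => ?_, fun h => (h t htR).symm⟩
    rcases hRt z hz with rfl | rfl
    · rw [one_mul, mul_one]
    · exact h.symm
  have hgC : g ∈ centralizer ({t} : Set G) := mem_centralizer_singleton_iff.2 hgt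
  obtain ⟨hsix, hreal⟩ := (quotient_facts hM P hexp hCP hχ hdeg hval R inf_le_left hlt hg ho hodd
    hgo (fun r hr => ((hmemR r).1 hr).2) (fun z hz hzg => (hmemR z).2 ⟨hz, hzg⟩) hfix hunit _ hX).2
    hq8 ho3 hr ⟨g, hgC⟩ rfl
  exact three_false hM P hq8 hexp hdrop hlow hg (hgo.trans ho3) ht ht1 hgt
    (fun z hz hzg => hRt z ((hmemR z).2 ⟨hz, hzg⟩)) hgC hsix hreal

/-- A normal Sylow subgroup forces order two. -/
theorem card_eq_two_of_normal (hM : Cfsg.IsPModular 2 M) (P : Sylow 2 G)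
    (hexp : ∀ x ∈ (P : Subgroup G), x * x = 1) (hq : 2 ≤ Nat.card (P : Subgroup G))
    (hCP : centralizer ((P : Subgroup G) : Set G) ≤ P)
    (hnt : ∀ χ ∈ prinRest M G, ¬ ∀ z ∈ (P : Subgroup G), (χ : G → ℂ) z = (χ : G → ℂ) 1)
    (hconj : ∀ a b : G, orderOf a = 2 → orderOf b = 2 → IsConj a b)
    (hP : (P : Subgroup G).Normal) : Nat.card G = 2 := by
  have : Fact (Nat.Prime 2) := ⟨Nat.prime_two⟩
  by_cases htop : ∀ g : G, g ∈ (P : Subgroup G)
  · have : Nontrivial (P : Subgroup G) := Finite.one_lt_card_iff_nontrivial.1 (by omega)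
    obtain ⟨z, hz⟩ := exists_ne (1 : (P : Subgroup G))
    have hz1 : (z : G) ≠ 1 := fun e => hz (Subtype.ext e)
    refine (Nat.card_eq_two_iff' (1 : G)).2 ⟨z, hz1, fun y hy => ?_⟩
    obtain ⟨c, hc⟩ := isConj_iff.1 (hconj y z
      (orderOf_eq_prime (by rw [pow_two]; exact hexp y (htop y)) hy)
      (orderOf_eq_prime (by rw [pow_two]; exact hexp z z.2) hz1))
    rw [comm_of_exp_two hexp (htop c) (htop y), mul_inv_cancel_right] at hc
    exact hc
  · exfalso
    obtain ⟨g, hg⟩ := not_forall.1 htop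
    have hg1 : (g : G ⧸ (P : Subgroup G)) ≠ 1 := fun e => hg ((QuotientGroup.eq_one_iff g).1 e)
    obtain ⟨φ, hφ⟩ := Char.exists_irr_ne_at_one hg1
    set χ : IrrCharacter G := ⟨_, Char.isIrrCharacter_mk (P : Subgroup G) φ.2⟩ with hχdef
    have hval : ∀ z ∈ (P : Subgroup G), (χ : G → ℂ) z = (χ : G → ℂ) 1 := fun z hz => by
      show (φ : _ → ℂ) (z : G ⧸ (P : Subgroup G)) = (φ : _ → ℂ) ((1 : G) : G ⧸ (P : Subgroup G))
      rw [(QuotientGroup.eq_one_iff z).2 hz, QuotientGroup.mk_one]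
    obtain ⟨d, -, hd⟩ := Char.IsIrr.degree φ.2
    have hcd : charDegree (χ : G → ℂ) = d := Blocks.charDegree_eq (by
      show (φ : _ → ℂ) ((1 : G) : G ⧸ (P : Subgroup G)) = d
      rw [QuotientGroup.mk_one, hd])
    have hdd : Odd d := by
      refine Odd.of_dvd_nat ?_ (Char.IsIrr.degree_dvd_card φ.2 hd)
      rw [← Subgroup.index_eq_card]
      exact Nat.not_even_iff_odd.1 fun h => P.not_dvd_index h.two_dvd
    have hmem : χ ∈ Cfsg.principalBlock M G :=
      mem_principal_of_odd hM P χ (hcd.symm ▸ hdd) fun x hx => by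
        rw [hval x (hCP hx), sub_self]; exact memLocalIdeal_zero hM
    refine hnt χ (mem_prinRest.2 ⟨hmem, fun e => hφ ?_⟩) hval
    have h1 := congrFun e g
    have h2 := congrFun e 1
    simp only [hχdef] at h1 h2
    rw [show ((1 : G) : G ⧸ (P : Subgroup G)) = 1 from rfl] at h2
    exact h1.trans h2.symm

/-- The classification with trivial odd core. -/
theorem forward (hM : Cfsg.IsPModular 2 M) (hcore : Cfsg.oddCore G = ⊥) {v : G} {k : ℂ} (hv : v ≠ 1)
    (hk : ∀ χ ∈ prinRest M G, (χ : G → ℂ) 1 - (χ : G → ℂ) v = k) :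
    Nat.card G = 2 ∨ ∃ (F : Type) (_ : Field F) (_ : Fintype F) (n : ℕ), 2 ≤ n ∧
      Fintype.card F = 2 ^ n ∧
      Nonempty (G ≃* Matrix.ProjectiveSpecialLinearGroup (Fin 2) F) ∧ v * v = 1 := by
  have : Fact (Nat.Prime 2) := ⟨Nat.prime_two⟩
  obtain ⟨P, hq, hexp, hv2, hinvol, -, hdrop, hnt, hlow, χ, hχm, hχd⟩ := exists_data hM hcore hv hk
  have hdeg : (χ : G → ℂ) 1 = (Nat.card (P : Subgroup G) : ℂ) - 1 := by
    rw [degree_eq, ← hχd]; push_cast; ring
  have hval2 : ∀ z : G, orderOf z = 2 → (χ : G → ℂ) z = -1 := fun z hz => by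
    rw [hdrop χ hχm z hz, hdeg]; ring
  have hconj : ∀ a b : G, orderOf a = 2 → orderOf b = 2 → IsConj a b := fun a b ha hb =>
    (hinvol a ha).symm.trans (hinvol b hb)
  have hord : ∀ z ∈ (P : Subgroup G), z ≠ 1 → orderOf z = 2 := fun z hz h1 =>
    orderOf_eq_prime (by rw [pow_two]; exact hexp z hz) h1
  have hCP := centralizer_sylow_le hM hcore P hexp hq hconj χ (mem_prinRest.1 hχm).1 hdeg hval2
  have hPc : IsMulCommutative (P : Subgroup G) :=
    ⟨⟨fun a b => Subtype.ext (comm_of_exp_two hexp a.2 b.2)⟩⟩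
  have htrans : ∀ a ∈ (P : Subgroup G), ∀ b ∈ (P : Subgroup G), a ≠ 1 → b ≠ 1 →
      ∃ n ∈ normalizer ((P : Subgroup G) : Set G), n * a * n⁻¹ = b := fun a ha b hb ha1 hb1 => by
    obtain ⟨c, hc⟩ := isConj_iff.1 (hconj a b (hord a ha ha1) (hord b hb hb1))
    subst hc
    exact Fusion.exists_mem_normalizer_conj_of_isMulCommutative P hPc ha c hb
  have hval : ∀ z ∈ (P : Subgroup G), z ≠ 1 → (χ : G → ℂ) z = -1 := fun z hz h1 =>
    hval2 z (hord z hz h1)
  -- the local subgroups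
  have h2 : ∀ z ∈ (P : Subgroup G), z ≠ 1 →
      Cfsg.HasNormalPComplement 2 (centralizer ({z} : Set G)) := by
    intro z hz hz1
    refine hasNormalPComplement_of_centralizes P
      (fun a ha => mem_centralizer_singleton_iff.2 (comm_of_exp_two hexp ha hz)) fun g hgC hgN => ?_
    have hle : centralizer ({z} : Set G) ⊓ normalizer ((P : Subgroup G) : Set G) ≤ P :=
      le_of_le_normalizer P inf_le_right fun h hh r hr hro hor =>
        no_fixer hM P hexp hCP htrans hdrop hlow (Char.IsIrr.isCharacter χ.2) hdeg hval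
          hh.2 hz hz1 (mem_centralizer_singleton_iff.1 hh.1) hr hro hor
    exact mem_centralizer_iff.2 fun b hb => comm_of_exp_two hexp hb (hle ⟨hgC, hgN⟩)
  have hbot : (⊥ : Subgroup G) ≠ (P : Subgroup G) := fun e => by
    rw [← e, Subgroup.card_bot] at hq; omega
  have hC : ∀ z ∈ (P : Subgroup G), z ≠ 1 → centralizer ({z} : Set G) ≤ P := by
    intro z hz hz1
    have hPH : (P : Subgroup G) ≤ centralizer ({z} : Set G) := fun a ha =>
      mem_centralizer_singleton_iff.2 (comm_of_exp_two hexp ha hz)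
    obtain ⟨K, hK, -, hle⟩ := exists_oddPart _ (h2 z hz hz1)
    have hKb : K ≤ P := fun y hy => by
      have hy1 := odd_centralizer_le_core hM P hexp hCP ⊥ bot_le bot_le hbot
        (fun w hw hwR => h2 w hw fun e => hwR (mem_bot.2 e)) (Char.IsIrr.isCharacter χ.2) hdeg hval hz
        (fun e => hz1 (mem_bot.1 e)) ((hK y).1 hy).1 ((hK y).1 hy).2
      rw [hcore, mem_bot] at hy1
      rw [hy1]
      exact one_mem _
    exact (hle P hPH (factorization_eq_of_le P hPH)).trans (sup_le hKb le_rfl)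
  obtain ⟨z, hz, hz1⟩ : ∃ z ∈ (P : Subgroup G), z ≠ 1 := by
    have : Nontrivial (P : Subgroup G) := Finite.one_lt_card_iff_nontrivial.1 (by omega)
    obtain ⟨z, hz⟩ := exists_ne (1 : (P : Subgroup G))
    exact ⟨z, z.2, fun e => hz (Subtype.ext e)⟩
  have hCs : ∀ s : G, orderOf s = 2 → ∀ c ∈ centralizer ({s} : Set G), c * c = 1 := by
    intro s hs c hc
    obtain ⟨w, hw⟩ := isConj_iff.1 (hconj s z hs (hord z hz hz1))
    have h1 : w * c * w⁻¹ ∈ centralizer ({z} : Set G) := by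
      rw [← hw, mem_centralizer_singleton_iff]
      calc w * c * w⁻¹ * (w * s * w⁻¹) = w * (c * s) * w⁻¹ := by group
        _ = w * (s * c) * w⁻¹ := by rw [mem_centralizer_singleton_iff.1 hc]
        _ = w * s * w⁻¹ * (w * c * w⁻¹) := by group
    have h2 := hexp _ (hC z hz hz1 h1)
    calc c * c = w⁻¹ * (w * c * w⁻¹ * (w * c * w⁻¹)) * w := by group
      _ = 1 := by rw [h2]; group
  by_cases hPn : (P : Subgroup G).Normal
  · exact Or.inl (card_eq_two_of_normal hM P hexp hq hCP hnt hconj hPn)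
  right
  have hnc : ¬ IsCyclic (P : Subgroup G) := by
    intro hcyc
    obtain ⟨a, ha⟩ := hcyc.exists_generator
    have hle : Nat.card (P : Subgroup G) ≤ 2 := by
      rw [← orderOf_eq_card_of_forall_mem_zpowers ha]
      exact Nat.le_of_dvd two_pos
        (orderOf_dvd_of_pow_eq_one (by rw [pow_two]; exact Subtype.ext (hexp a a.2)))
    obtain ⟨K, hK, -, hKle⟩ := exists_oddPart (⊤ : Subgroup G)
      (hasNormalPComplement_of_centralizes P le_top fun g _ hgN => by
        rw [mem_centralizer_iff]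
        intro b hb
        by_cases hb1 : b = 1
        · rw [hb1, one_mul, mul_one]
        have hb' : g * b * g⁻¹ ∈ (P : Subgroup G) := (mem_normalizer_iff.1 hgN b).1 hb
        have hne : g * b * g⁻¹ ≠ 1 := fun e => hb1 (conj_eq_one_iff.1 e)
        have h2 : Nat.card (P : Subgroup G) = 2 := by omega
        obtain ⟨y, -, hy⟩ := (Nat.card_eq_two_iff' (1 : (P : Subgroup G))).1 h2
        have e := congrArg Subtype.val ((hy ⟨_, hb'⟩ fun e => hne (congrArg Subtype.val e)).trans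
          (hy ⟨b, hb⟩ fun e => hb1 (congrArg Subtype.val e)).symm)
        calc b * g = g * b * g⁻¹ * g := by rw [show g * b * g⁻¹ = b from e]
          _ = g * b := by group)
    have hKn : K.Normal := ⟨fun x hx w => (hK _).2 ⟨mem_top _, by
      rw [← MulAut.conj_apply, MulEquiv.orderOf_eq]; exact ((hK x).1 hx).2⟩⟩
    have hKb : K = ⊥ := by
      rw [← hcore]
      exact le_antisymm (Core.le_pPrimeCore (p := 2) (N := K)
        (Nat.prime_two.coprime_iff_not_dvd.2 (fun h => by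
          obtain ⟨x, hx⟩ := exists_prime_orderOf_dvd_card' (G := K) 2 h
          exact ((hK x).1 x.2).2.not_two_dvd_nat (by rw [Subgroup.orderOf_coe, hx]))).symm)
        (hcore ▸ bot_le)
    have h := hKle P le_top (factorization_eq_of_le P le_top)
    rw [hKb, bot_sup_eq] at h
    exact hPn (by rw [top_le_iff.1 h]; exact inferInstance)
  obtain ⟨F, hF, hFfin, hcardF, hiso⟩ := S1230.result P hnc hPn fun s hs =>
    ⟨⟨⟨fun a b => Subtype.ext (comm_of_exp_two (hCs s hs) a.2 b.2)⟩⟩,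
      fun c hc => by rw [pow_two]; exact hCs s hs c hc⟩
  obtain ⟨n, hn⟩ := IsPGroup.iff_card.1 P.isPGroup'
  refine ⟨F, hF, hFfin, n, ?_, hcardF.trans hn, hiso, ?_⟩
  · by_contra hn2
    apply hnc
    have hn1 : n = 1 := by
      rcases (show n = 0 ∨ n = 1 by omega) with rfl | rfl
      · rw [pow_zero] at hn; omega
      · rfl
    exact isCyclic_of_prime_card (p := 2) (by rw [hn, hn1, pow_one])
  · refine hCs _ hv2 v (mem_centralizer_singleton_iff.2 ?_)
    exact (Commute.self_pow v _ : Commute v (pPartOf 2 v)).eq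

end Cfsg.Agent.EqualDrop
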