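import Cfsg.Agent.EqualDrop.Basic
import Cfsg.Agent.BlockChar.RegInner

/-!
# Consequences of a constant drop

If the nonprincipal characters of the principal two-block all drop by the same nonzero amount at
one element, the Sylow two-subgroup is elementary abelian, has one class of involutions and the
drop is its order.
-/

set_option autoImplicit false

namespace Cfsg.Agent.EqualDrop

open scoped ComplexConjugate
open scoped _root_.Classical
open Cfsg Cfsg.Agent Cfsg.Agent.Blocks Subgroup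

universe u

variable {G : Type u} [Group G] [Fintype G] {M : Ideal Cfsg.AlgInt}

theorem memLocalRing_sum_char (hM : Cfsg.IsPModular 2 M) (s : Finset (IrrCharacter G)) (x : G) :
    Cfsg.MemLocalRing M (∑ χ ∈ s, (χ : G → ℂ) x) :=
  (localRing hM).sum_mem fun χ _ => memLocalRing_char hM (Char.IsIrr.isCharacter χ.2) x

variable {v : G} {k : ℂ}

/-- The drop, used against another element. -/
theorem drop_mul_sum (hM : Cfsg.IsPModular 2 M)
    (hk : ∀ χ ∈ prinRest M G, (χ : G → ℂ) 1 - (χ : G → ℂ) v = k) (f : IrrCharacter G → ℂ) :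
    ∑ χ ∈ prinFin M G, ((χ : G → ℂ) 1 - (χ : G → ℂ) v) * f χ = k * ∑ χ ∈ prinRest M G, f χ := by
  rw [sum_prinFin hM, show (triv G : G → ℂ) 1 - (triv G : G → ℂ) v = 0 from sub_self _, zero_mul,
    zero_add, Finset.mul_sum]
  exact Finset.sum_congr rfl fun χ hχ => by rw [hk χ hχ]

/-- Every nontrivial two-element is conjugate to the inverse two-part. -/
theorem isConj_inv_pPart (hM : Cfsg.IsPModular 2 M) (hk0 : k ≠ 0)
    (hk : ∀ χ ∈ prinRest M G, (χ : G → ℂ) 1 - (χ : G → ℂ) v = k) {x : G}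
    (hx : ∃ j, orderOf x = 2 ^ j) (hx1 : x ≠ 1) : IsConj (pPartOf 2 v) x⁻¹ := by
  by_contra hnot
  have hxp : pPartOf 2 x = x := by
    have := (parts_mul Nat.prime_two (Commute.one_right x) hx (by simp)).1
    rwa [mul_one] at this
  have h1p : pPartOf 2 (1 : G) = 1 := (pPartOf_eq_one_iff Nat.prime_two _).2 (by simp)
  have hne : ¬ IsConj (pPartOf 2 (1 : G)) (pPartOf 2 x)⁻¹ := by
    rw [h1p, hxp, isConj_one_right, inv_eq_one]
    exact hx1
  have hv : ¬ IsConj (pPartOf 2 v) (pPartOf 2 x)⁻¹ := by rwa [hxp]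
  have o1 := orth hM 1 x hne
  have hz : ∑ χ ∈ prinRest M G, (χ : G → ℂ) x = 0 := by
    have h := drop_mul_sum hM hk (fun χ => (χ : G → ℂ) x)
    simp only [sub_mul, Finset.sum_sub_distrib, o1, orth hM v x hv, sub_zero] at h
    exact (mul_eq_zero.1 h.symm).resolve_left hk0
  have hcong : ∀ χ : IrrCharacter G, Cfsg.MemLocalIdeal M ((χ : G → ℂ) x - (χ : G → ℂ) 1) := fun χ =>
    memLocalIdeal_char_sub_degree hM (Char.IsIrr.isCharacter χ.2) hx
  have hA : 2 ∣ ∑ χ ∈ prinFin M G, charDegree (χ : G → ℂ) ^ 2 := by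
    rw [← memLocalIdeal_natCast_iff hM]
    have h := memLocalIdeal_sum hM (prinFin M G) (f := fun χ : IrrCharacter G =>
      (χ : G → ℂ) 1 * ((χ : G → ℂ) x - (χ : G → ℂ) 1)) fun χ _ =>
        memLocalIdeal_mul_left hM (memLocalRing_char hM (Char.IsIrr.isCharacter χ.2) 1) (hcong χ)
    simp only [mul_sub, Finset.sum_sub_distrib, o1, zero_sub] at h
    simp only [degree_eq] at h
    have h' := memLocalIdeal_neg h
    rw [neg_neg] at h'
    push_cast
    simpa [pow_two] using h'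
  have hB : 2 ∣ ∑ χ ∈ prinRest M G, charDegree (χ : G → ℂ) := by
    rw [← memLocalIdeal_natCast_iff hM]
    have h := memLocalIdeal_sum hM (prinRest M G) (f := fun χ : IrrCharacter G =>
      (χ : G → ℂ) x - (χ : G → ℂ) 1) fun χ _ => hcong χ
    simp only [Finset.sum_sub_distrib, hz, zero_sub, degree_eq] at h
    have h' := memLocalIdeal_neg h
    rw [neg_neg] at h'
    push_cast
    exact h'
  have hsplit : ∑ χ ∈ prinFin M G, charDegree (χ : G → ℂ) ^ 2 =
      1 + ∑ χ ∈ prinRest M G, charDegree (χ : G → ℂ) ^ 2 := by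
    rw [prinRest, ← Finset.add_sum_erase _ _ (mem_prinFin.2 (triv_mem_principalBlock hM))]
    rw [Blocks.charDegree_eq (χ := ((triv G : IrrCharacter G) : G → ℂ)) (n := 1) (by simp [triv]),
      one_pow]
  have hpar : 2 ∣ ∑ χ ∈ prinRest M G, charDegree (χ : G → ℂ) ^ 2 := by
    rw [Nat.dvd_iff_mod_eq_zero, Finset.sum_nat_mod] at hB ⊢
    rw [← hB]
    congr 1
    exact Finset.sum_congr rfl fun χ _ => by
      rw [Nat.pow_mod]
      rcases Nat.mod_two_eq_zero_or_one (charDegree (χ : G → ℂ)) with h | h <;> rw [h]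
  omega

/-- The value drop is a natural divisor of a power of two not above the Sylow order. -/
theorem exists_nat_drop (hM : Cfsg.IsPModular 2 M) (P : Sylow 2 G)
    (hk : ∀ χ ∈ prinRest M G, (χ : G → ℂ) 1 - (χ : G → ℂ) v = k)
    (hv : ¬ Cfsg.IsPRegular 2 v) :
    ∃ K : ℕ, k = K ∧ 2 ≤ K ∧ 2 ∣ K ∧ K ≤ Nat.card (P : Subgroup G) ∧
      ∑ χ ∈ prinFin M G, charDegree (χ : G → ℂ) ^ 2 =
        K * ∑ χ ∈ prinRest M G, charDegree (χ : G → ℂ) := by
  have : Fact (Nat.Prime 2) := ⟨Nat.prime_two⟩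
  set B := Cfsg.principalBlock M G with hB
  have hB' : Cfsg.IsPBlock M B := isPBlock_principalBlock M
  have htriv : triv G ∈ B := triv_mem_principalBlock hM
  -- squares of degrees
  have hA : ((∑ χ ∈ prinFin M G, charDegree (χ : G → ℂ) ^ 2 : ℕ) : ℂ) =
      k * ((∑ χ ∈ prinRest M G, charDegree (χ : G → ℂ) : ℕ) : ℂ) := by
    have h := drop_mul_sum hM hk (fun χ => (χ : G → ℂ) 1)
    have ho : ∑ χ ∈ prinFin M G, (χ : G → ℂ) v * (χ : G → ℂ) 1 = 0 := by
      refine orth hM v 1 ?_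
      rw [(pPartOf_eq_one_iff Nat.prime_two (1 : G)).2 (by simp), inv_one, isConj_one_left]
      exact fun e => hv ((pPartOf_eq_one_iff Nat.prime_two v).1 e)
    simp only [sub_mul, Finset.sum_sub_distrib, ho, sub_zero] at h
    simp only [degree_eq] at h
    push_cast
    simpa [pow_two] using h
  have hApos : 1 ≤ ∑ χ ∈ prinFin M G, charDegree (χ : G → ℂ) ^ 2 := by
    refine le_trans (le_of_eq ?_) (Finset.single_le_sum (f := fun χ : IrrCharacter G =>
      charDegree (χ : G → ℂ) ^ 2) (fun _ _ => Nat.zero_le _) (mem_prinFin.2 htriv))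
    rw [Blocks.charDegree_eq (χ := ((triv G : IrrCharacter G) : G → ℂ)) (n := 1) (by simp [triv]),
      one_pow]
  -- the rows of the regular inner product
  have hsum : ∀ x : G, ∑ ψ ∈ prinFin M G, BlockChar.regM 2 B (triv G) ψ * (ψ : G → ℂ) x =
      if Cfsg.IsPRegular 2 x then ((2 ^ Cfsg.blockDefect 2 B : ℕ) : ℂ) else 0 := by
    intro x
    have h := BlockChar.sum_regM_mul hM hB' htriv x
    rw [show (triv G : G → ℂ) x = 1 from rfl, mul_one] at h
    refine Eq.trans ?_ h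
    rw [← Finset.sum_filter]
    exact Finset.sum_congr (by ext χ; simp [mem_prinFin, hB]) fun _ _ => rfl
  choose j hj using fun ψ : IrrCharacter G => BlockChar.exists_int_regM hM htriv ψ
  have hJ : k * ((∑ ψ ∈ prinRest M G, j ψ : ℤ) : ℂ) = ((2 ^ Cfsg.blockDefect 2 B : ℕ) : ℂ) := by
    have h := drop_mul_sum hM hk (fun ψ => BlockChar.regM 2 B (triv G) ψ)
    have hsum' : ∀ x : G, ∑ ψ ∈ prinFin M G, (ψ : G → ℂ) x * BlockChar.regM 2 B (triv G) ψ =
        if Cfsg.IsPRegular 2 x then ((2 ^ Cfsg.blockDefect 2 B : ℕ) : ℂ) else 0 := fun x =>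
      (Finset.sum_congr rfl fun ψ _ => mul_comm _ _).trans (hsum x)
    simp only [sub_mul, Finset.sum_sub_distrib, hsum',
      if_neg hv, if_pos (show Cfsg.IsPRegular 2 (1 : G) by simp [Cfsg.IsPRegular]), sub_zero] at h
    rw [h]
    push_cast
    rw [Finset.sum_congr rfl fun ψ _ => (hj ψ).symm]
  set A := ∑ χ ∈ prinFin M G, charDegree (χ : G → ℂ) ^ 2
  set S := ∑ χ ∈ prinRest M G, charDegree (χ : G → ℂ)
  set J := ∑ ψ ∈ prinRest M G, j ψ
  have hS : S ≠ 0 := fun e => by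
    rw [e, Nat.cast_zero, mul_zero, Nat.cast_eq_zero] at hA
    omega
  obtain ⟨χ, hχ⟩ : (prinRest M G).Nonempty := by
    rw [Finset.nonempty_iff_ne_empty]
    intro e
    simp [S, e] at hS
  have hkint : IsIntegral ℤ k := hk χ hχ ▸
    (Char.IsChar.isIntegral (Char.IsIrr.isCharacter χ.2) 1).sub
      (Char.IsChar.isIntegral (Char.IsIrr.isCharacter χ.2) v)
  have hkq : k = (((A : ℚ) / S : ℚ) : ℂ) := by
    push_cast
    rw [hA, mul_div_cancel_right₀ _ (Nat.cast_ne_zero.2 hS)]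
  obtain ⟨K', hK'⟩ := Blocks.exists_int_of_isIntegral_rat hkint _ hkq
  have hAS : (A : ℤ) = K' * S := by
    rw [hK'] at hA
    exact_mod_cast hA
  have hK'pos : 0 < K' := pos_of_mul_pos_left
    (hAS ▸ (by exact_mod_cast hApos : (0 : ℤ) < A)) (Nat.cast_nonneg _)
  obtain ⟨K, rfl⟩ : ∃ K : ℕ, K' = K := ⟨K'.toNat, (Int.toNat_of_nonneg hK'pos.le).symm⟩
  have hKJ : (K : ℤ) * J = ((2 ^ Cfsg.blockDefect 2 B : ℕ) : ℤ) := by
    rw [hK'] at hJ
    exact_mod_cast hJ
  have hKd : K ∣ 2 ^ Cfsg.blockDefect 2 B := Int.natCast_dvd_natCast.1 ⟨J, hKJ.symm⟩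
  have hKA : A = K * S := by exact_mod_cast hAS
  have hK2 : K ≠ 1 := by
    intro e
    rw [e, one_mul] at hKA
    have h1 : S ≤ ∑ χ ∈ prinRest M G, charDegree (χ : G → ℂ) ^ 2 :=
      Finset.sum_le_sum fun χ _ => Nat.le_self_pow two_ne_zero _
    have h2 : A = 1 + ∑ χ ∈ prinRest M G, charDegree (χ : G → ℂ) ^ 2 := by
      rw [prinRest]
      refine ((Finset.add_sum_erase _ _ (mem_prinFin.2 htriv)).symm).trans ?_
      rw [Blocks.charDegree_eq (χ := ((triv G : IrrCharacter G) : G → ℂ)) (n := 1) (by simp [triv]),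
        one_pow]
    omega
  refine ⟨K, by rw [hK']; push_cast; rfl, by omega, ?_, ?_, hKA⟩
  · obtain ⟨i, -, rfl⟩ := (Nat.dvd_prime_pow Nat.prime_two).1 hKd
    rcases i with _ | i
    · simp at hK2
    · exact dvd_pow_self 2 (Nat.succ_ne_zero i)
  · refine (Nat.le_of_dvd (pow_pos two_pos _) hKd).trans ?_
    rw [P.card_eq_multiplicity]
    exact Nat.pow_le_pow_right two_pos (Nat.sub_le _ _)

/-- A nonprincipal member is not trivial on the Sylow subgroup. -/
theorem not_trivial_on_sylow (hM : Cfsg.IsPModular 2 M) (P : Sylow 2 G) {K : ℕ} (hK : 2 ≤ K)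
    (hK2 : 2 ∣ K) (hk : ∀ χ ∈ prinRest M G, (χ : G → ℂ) 1 - (χ : G → ℂ) v = K) {χ : IrrCharacter G}
    (hχ : χ ∈ prinRest M G) : ¬ ∀ z ∈ (P : Subgroup G), (χ : G → ℂ) z = (χ : G → ℂ) 1 := by
  intro htr
  have : Fact (Nat.Prime 2) := ⟨Nat.prime_two⟩
  set L := Subgroup.normalClosure ((P : Subgroup G) : Set G) with hL
  have hLn : L.Normal := Subgroup.normalClosure_normal
  have hPL : (P : Subgroup G) ≤ L := Subgroup.subset_normalClosure
  have hodd : Odd (Nat.card (G ⧸ L)) := by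
    rw [← Nat.not_even_iff_odd, even_iff_two_dvd, ← Subgroup.index_eq_card]
    exact fun h => P.not_dvd_index (h.trans (index_dvd_of_le hPL))
  set π := QuotientGroup.mk' L with hπ
  set C := (centralizer ((P : Subgroup G) : Set G)).map π with hC
  have hCn : C.Normal := by
    refine normalizer_eq_top_iff.1 (eq_top_iff.2 fun q _ => ?_)
    obtain ⟨g, rfl⟩ := QuotientGroup.mk'_surjective L q
    have hg : g ∈ normalizer ((P : Subgroup G) : Set G) ⊔ L := by
      rw [show normalizer ((P : Subgroup G) : Set G) ⊔ L = ⊤ from P.normalizer_sup_eq_top' hPL]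
      trivial
    refine (sup_le ?_ ?_ : normalizer ((P : Subgroup G) : Set G) ⊔ L ≤
      (normalizer (C : Set (G ⧸ L))).comap π) hg
    · intro n hn
      have hn' : n ∈ normalizer (centralizer ((P : Subgroup G) : Set G) : Set G) := by
        rw [mem_normalizer_iff]
        intro c
        have key : ∀ m : G, m ∈ normalizer ((P : Subgroup G) : Set G) →
            ∀ d ∈ centralizer ((P : Subgroup G) : Set G),
              m * d * m⁻¹ ∈ centralizer ((P : Subgroup G) : Set G) := by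
          intro m hm d hd
          rw [mem_centralizer_iff] at hd ⊢
          intro a ha
          have h1 := hd _ ((mem_normalizer_iff.1 (inv_mem hm) a).1 ha)
          calc a * (m * d * m⁻¹) = m * (m⁻¹ * a * m⁻¹⁻¹ * d) * m⁻¹ := by group
            _ = m * (d * (m⁻¹ * a * m⁻¹⁻¹)) * m⁻¹ := by rw [h1]
            _ = m * d * m⁻¹ * a := by group
        refine ⟨key n hn c, fun h => ?_⟩
        simpa [mul_assoc] using key n⁻¹ (inv_mem hn) _ h
      rw [Subgroup.mem_comap, hC]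
      exact le_normalizer_map π ⟨n, hn', rfl⟩
    · intro l hl
      rw [Subgroup.mem_comap, hπ, QuotientGroup.mk'_apply, (QuotientGroup.eq_one_iff l).2 hl]
      exact one_mem _
  -- the kernel contains the normal closure and then the centraliser
  have hχc := Char.IsIrr.isCharacter χ.2
  have hLker : L ≤ Char.kerSubgroup hχc :=
    Subgroup.normalClosure_le_normal fun z hz => htr z hz
  obtain ⟨φ, hφi, hφ⟩ := Char.IsIrr.exists_quotient L χ.2 fun n hn => hLker hn
  set φ' : IrrCharacter (G ⧸ L) := ⟨φ, hφi⟩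
  haveI : Fintype (G ⧸ L) := Fintype.ofFinite _
  have hd : (φ' : G ⧸ L → ℂ) 1 = (χ : G → ℂ) 1 := by
    rw [hφ, QuotientGroup.mk_one]
  have hdodd : Odd (charDegree (χ : G → ℂ)) :=
    hodd.of_dvd_nat (Char.IsIrr.degree_dvd_card hφi (hd.trans (degree_eq χ)))
  have hsumC : ¬ Cfsg.MemLocalIdeal M (∑ c : C, (φ' : G ⧸ L → ℂ) c) := by
    intro h
    have h2 : Cfsg.MemLocalIdeal M (∑ c : C, ((φ' : G ⧸ L → ℂ) c - (χ : G → ℂ) 1)) := by
      refine memLocalIdeal_sum hM _ fun c _ => ?_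
      obtain ⟨x, hx, hxc⟩ := c.2
      rw [show (φ' : G ⧸ L → ℂ) c = (χ : G → ℂ) x by rw [hφ, ← hxc]; rfl]
      exact congr_of_mem_principal hM P (mem_prinRest.1 hχ).1 hx
    have h3 := memLocalIdeal_sub hM h h2
    rw [Finset.sum_sub_distrib, sub_sub_cancel, Finset.sum_const, nsmul_eq_mul, degree_eq,
      ← Nat.cast_mul, memLocalIdeal_natCast_iff hM] at h3
    have hCodd : Odd (Finset.univ : Finset C).card := by
      rw [Finset.card_univ, ← Nat.card_eq_fintype_card]
      exact hodd.of_dvd_nat (card_subgroup_dvd_card C)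
    exact (hCodd.mul hdodd).not_two_dvd_nat h3
  have hCker : ∀ c ∈ C, (φ' : G ⧸ L → ℂ) c = (φ' : G ⧸ L → ℂ) 1 := by
    rcases trivial_or_sum_eq_zero φ' C with h | h
    · exact h
    · refine absurd ?_ hsumC
      have := h 1
      simp only [mul_one] at this
      rw [this]
      exact memLocalIdeal_zero hM
  -- the normal subgroup cut out by the centraliser is everything
  set N := C.comap π with hN
  have hNn : N.Normal := hCn.comap _
  have hPN : centralizer ((P : Subgroup G) : Set G) ≤ N := fun x hx => ⟨x, hx, rfl⟩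
  have hNker : ∀ x ∈ N, (χ : G → ℂ) x = (χ : G → ℂ) 1 := fun x hx => by
    rw [hφ, hφ, QuotientGroup.mk_one]
    exact hCker _ hx
  have hLN : L ≤ N := fun l hl => by
    rw [hN, Subgroup.mem_comap, hπ, QuotientGroup.mk'_apply, (QuotientGroup.eq_one_iff l).2 hl]
    exact one_mem _
  haveI : Fintype (G ⧸ N) := Fintype.ofFinite _
  have hQodd : Odd (Nat.card (G ⧸ N)) := by
    rw [← Subgroup.index_eq_card]
    exact (L.index_eq_card ▸ hodd).of_dvd_nat (index_dvd_of_le hLN)
  obtain ⟨ξ, hξi, hξ⟩ := Char.IsIrr.exists_quotient N χ.2 hNker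
  have hmem : ∀ ψ : IrrCharacter (G ⧸ N), (ψ : G ⧸ N → ℂ) ≠ (fun _ => 1) →
      (⟨_, Char.isIrrCharacter_mk N ψ.2⟩ : IrrCharacter G) ∈ prinRest M G := by
    intro ψ hψ
    refine mem_prinRest.2 ⟨mem_principal_of_odd hM P _ ?_ fun x hx => ?_, fun e => hψ (funext fun q => ?_)⟩
    · obtain ⟨d, -, hd, -⟩ := exists_degree ψ
      rw [Blocks.charDegree_eq (show (ψ : G ⧸ N → ℂ) ((1 : G) : G ⧸ N) = (d : ℂ) by
        rw [QuotientGroup.mk_one, hd])]
      exact hQodd.of_dvd_nat (Char.IsIrr.degree_dvd_card ψ.2 hd)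
    · show Cfsg.MemLocalIdeal M ((ψ : G ⧸ N → ℂ) (x : G ⧸ N) - (ψ : G ⧸ N → ℂ) ((1 : G) : G ⧸ N))
      rw [(QuotientGroup.eq_one_iff x).2 (hPN hx), QuotientGroup.mk_one, sub_self]
      exact memLocalIdeal_zero hM
    · obtain ⟨g, rfl⟩ := QuotientGroup.mk_surjective q
      exact congrFun e g
  have hξ1 : ξ ≠ fun _ => 1 := fun e => (mem_prinRest.1 hχ).2 (funext fun g => by rw [hξ, e])
  have hv : (v : G ⧸ N) ≠ 1 := by
    intro e
    have h := hk χ hχ
    rw [hξ, hξ, e, QuotientGroup.mk_one, sub_self] at h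
    exact absurd (Nat.cast_eq_zero.1 h.symm) (by omega)
  have horth : ∑ ψ : IrrCharacter (G ⧸ N), (ψ : G ⧸ N → ℂ) 1 * conj ((ψ : G ⧸ N → ℂ) v) = 0 := by
    rw [Char.second_orthogonality, if_neg]
    rw [isConj_one_right]
    exact hv
  have hsq : ∑ ψ : IrrCharacter (G ⧸ N), (ψ : G ⧸ N → ℂ) 1 * conj ((ψ : G ⧸ N → ℂ) 1) =
      (Nat.card (G ⧸ N) : ℂ) := by
    rw [Char.second_orthogonality, if_pos (IsConj.refl _)]
    rw [show centralizer ({(1 : G ⧸ N)} : Set (G ⧸ N)) = ⊤ from eq_top_iff.2 fun a _ =>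
      mem_centralizer_singleton_iff.2 (by rw [mul_one, one_mul])]
    rw [Subgroup.card_top]
  have hdiff : (Nat.card (G ⧸ N) : ℂ) =
      (K : ℂ) * ((∑ ψ ∈ Finset.univ.erase (triv (G ⧸ N)), charDegree (ψ : G ⧸ N → ℂ) : ℕ) : ℂ) := by
    rw [← hsq, ← sub_zero (∑ ψ : IrrCharacter (G ⧸ N), _), ← horth, ← Finset.sum_sub_distrib,
      ← Finset.add_sum_erase _ _ (Finset.mem_univ (triv (G ⧸ N)))]
    simp only [triv, map_one, mul_one, sub_self, zero_add, Nat.cast_sum, Finset.mul_sum]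
    refine Finset.sum_congr rfl fun ψ hψ => ?_
    have h := hk _ (hmem ψ fun e => (Finset.mem_erase.1 hψ).1 (Subtype.ext e))
    simp only [QuotientGroup.mk_one] at h
    rw [← mul_sub, ← map_sub, h, Complex.conj_natCast, degree_eq]
    ring
  have hnat : Nat.card (G ⧸ N) =
      K * ∑ ψ ∈ Finset.univ.erase (triv (G ⧸ N)), charDegree (ψ : G ⧸ N → ℂ) := by
    exact_mod_cast hdiff
  exact hQodd.not_two_dvd_nat (hnat ▸ hK2.mul_right _)

/-- The numerical heart: all drops at involutions are the Sylow order. -/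
theorem exists_data (hM : Cfsg.IsPModular 2 M) (hcore : Cfsg.oddCore G = ⊥) (hv : v ≠ 1)
    (hk : ∀ χ ∈ prinRest M G, (χ : G → ℂ) 1 - (χ : G → ℂ) v = k) :
    ∃ (P : Sylow 2 G), 2 ≤ Nat.card (P : Subgroup G) ∧
      (∀ x ∈ (P : Subgroup G), x * x = 1) ∧
      orderOf (pPartOf 2 v) = 2 ∧ (∀ s : G, orderOf s = 2 → IsConj (pPartOf 2 v) s) ∧
      k = (Nat.card (P : Subgroup G) : ℂ) ∧
      (∀ χ ∈ prinRest M G, ∀ s : G, orderOf s = 2 →
        (χ : G → ℂ) s = (χ : G → ℂ) 1 - (Nat.card (P : Subgroup G) : ℂ)) ∧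
      (∀ χ ∈ prinRest M G, ¬ ∀ z ∈ (P : Subgroup G), (χ : G → ℂ) z = (χ : G → ℂ) 1) ∧
      (∀ χ ∈ prinRest M G, Nat.card (P : Subgroup G) ≤ charDegree (χ : G → ℂ) + 1) ∧
      ∃ χ ∈ prinRest M G, charDegree (χ : G → ℂ) + 1 = Nat.card (P : Subgroup G) := by
  have : Fact (Nat.Prime 2) := ⟨Nat.prime_two⟩
  have hk0 : k ≠ 0 := by
    intro e
    refine hv ?_
    obtain ⟨Kr, hKn, hKeq, hKp, -⟩ := BlockThms.exists_blockKer hM (isPBlock_principalBlock M)
      (triv_mem_principalBlock (G := G) hM)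
    have hmem : v ∈ Kr := by
      show v ∈ (Kr : Set G)
      rw [hKeq]
      intro χ hχ
      by_cases h1 : (χ : G → ℂ) = fun _ => 1
      · rw [h1]
      · exact (sub_eq_zero.1 ((hk χ (mem_prinRest.2 ⟨hχ, h1⟩)).trans e)).symm
    have hle : Kr ≤ Cfsg.oddCore G :=
      le_sSup ⟨hKn, (Nat.prime_two.coprime_iff_not_dvd.2 hKp).symm⟩
    exact mem_bot.1 (hcore ▸ hle hmem)
  let P : Sylow 2 G := default
  have hq2 : 2 ≤ Nat.card (P : Subgroup G) := by
    by_contra hlt
    have h1 : Nat.card (P : Subgroup G) = 1 := by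
      have := Nat.card_pos (α := (P : Subgroup G)); omega
    have hodd : Odd (Nat.card G) := by
      rw [Nat.odd_iff, ← Nat.not_even_iff, even_iff_two_dvd]
      intro h
      exact P.ne_bot_of_dvd_card h (eq_bot_of_card_eq _ h1)
    have htop : (⊤ : Subgroup G) ≤ Cfsg.oddCore G :=
      le_sSup ⟨inferInstance, by rw [Subgroup.card_top]; exact (Nat.coprime_two_right.2 hodd)⟩
    exact hv (mem_bot.1 (hcore ▸ htop (mem_top v)))
  have hinvol : ∀ s : G, orderOf s = 2 → IsConj (pPartOf 2 v) s := fun s hs => by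
    have h := isConj_inv_pPart hM hk0 hk ⟨1, by rw [hs, pow_one]⟩ (fun e => by simp [e] at hs)
    rwa [inv_eq_of_mul_eq_one_right (show s * s = 1 by
      rw [← pow_two, ← hs, pow_orderOf_eq_one])] at h
  obtain ⟨s, hs⟩ := exists_prime_orderOf_dvd_card' (G := (P : Subgroup G)) 2 (by
    obtain ⟨e, he⟩ := IsPGroup.iff_card.1 P.isPGroup'
    rcases e with _ | e
    · rw [he] at hq2; simp at hq2
    · rw [he]; exact dvd_pow_self 2 (Nat.succ_ne_zero e))
  rw [← Subgroup.orderOf_coe] at hs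
  have hto : orderOf (pPartOf 2 v) = 2 := by
    obtain ⟨c, hc⟩ := isConj_iff.1 (hinvol _ hs)
    have h := hs
    rw [← hc, ← MulAut.conj_apply, MulEquiv.orderOf_eq] at h
    exact h
  have hexp : ∀ x ∈ (P : Subgroup G), x * x = 1 := by
    intro x hx
    by_cases h1 : x = 1
    · rw [h1, mul_one]
    obtain ⟨j, hj⟩ := P.isPGroup' ⟨x, hx⟩
    obtain ⟨i, -, hi⟩ := (Nat.dvd_prime_pow Nat.prime_two).1 (orderOf_dvd_of_pow_eq_one
      (show x ^ 2 ^ j = 1 from congrArg Subtype.val hj))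
    obtain ⟨c, hc⟩ := isConj_iff.1 (isConj_inv_pPart hM hk0 hk ⟨i, hi⟩ h1)
    have : orderOf x = 2 := by
      rw [← orderOf_inv, ← hc, ← MulAut.conj_apply, MulEquiv.orderOf_eq, hto]
    rw [← pow_two, ← this, pow_orderOf_eq_one]
  obtain ⟨K, rfl, hK2, hKd, hKq, hKA⟩ := exists_nat_drop hM P hk (fun h => by
    have h1 := (pPartOf_eq_one_iff Nat.prime_two v).2 h
    rw [h1, orderOf_one] at hto
    omega)
  set q := Nat.card (P : Subgroup G) with hq
  have hnt : ∀ χ ∈ prinRest M G, ¬ ∀ z ∈ (P : Subgroup G), (χ : G → ℂ) z = (χ : G → ℂ) 1 :=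
    fun χ hχ => not_trivial_on_sylow hM P hK2 hKd hk hχ
  set t := pPartOf 2 v with ht
  have hconst : ∀ (χ : IrrCharacter G) (z : G), orderOf z = 2 → (χ : G → ℂ) z = (χ : G → ℂ) t :=
    fun χ z hz => (Char.classFun_isConj (Char.isClassFunction_of_isIrr χ.2) (hinvol z hz)).symm
  -- the multiplicity of the regular character
  have hmult : ∀ χ ∈ prinRest M G, ∃ m f : ℤ, 1 ≤ m ∧ 0 ≤ f ∧
      (χ : G → ℂ) t = (((f - m : ℤ)) : ℂ) ∧
      (charDegree (χ : G → ℂ) : ℤ) = (f - m) + m * q := by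
    intro χ hχ
    obtain ⟨f, hf⟩ := exists_sum_eq (Char.IsIrr.isCharacter χ.2) (P : Subgroup G)
    rw [← Finset.add_sum_erase _ _ (Finset.mem_univ (1 : (P : Subgroup G))), OneMemClass.coe_one,
      Finset.sum_congr rfl (fun (a : (P : Subgroup G)) ha => hconst χ (a : G) (orderOf_eq_prime
        (by rw [pow_two]; exact hexp a a.2)
        (fun e => (Finset.mem_erase.1 ha).1 (Subtype.ext e)))),
      Finset.sum_const, Finset.card_erase_of_mem (Finset.mem_univ _), Finset.card_univ,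
      ← Nat.card_eq_fintype_card, ← hq, nsmul_eq_mul, Nat.cast_sub (by omega), Nat.cast_one,
      degree_eq] at hf
    set d := charDegree (χ : G → ℂ)
    have hq1 : ((q : ℂ) - 1) ≠ 0 := by
      intro e
      have : (q : ℂ) = ((1 : ℕ) : ℂ) := by rw [Nat.cast_one]; linear_combination e
      have := Nat.cast_injective this
      omega
    have hrat : (χ : G → ℂ) t = ((((q : ℚ) * f - d) / ((q : ℚ) - 1) : ℚ) : ℂ) := by
      push_cast
      rw [eq_div_iff hq1]
      linear_combination hf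
    obtain ⟨e, he⟩ := Blocks.exists_int_of_isIntegral_rat
      (Char.IsChar.isIntegral (Char.IsIrr.isCharacter χ.2) t) _ hrat
    have heq : (d : ℤ) + ((q : ℤ) - 1) * e = (q : ℤ) * f := by
      rw [he] at hf
      exact_mod_cast hf
    refine ⟨f - e, f, ?_, Nat.cast_nonneg _, by rw [he]; push_cast; ring, by linear_combination heq⟩
    have hed : (e : ℝ) ≤ (d : ℝ) := by
      have h1 := (Complex.re_le_norm _).trans (Char.IsChar.norm_le (Char.IsIrr.isCharacter χ.2) t)
      rw [he, degree_eq, Complex.intCast_re, Complex.natCast_re] at h1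
      exact h1
    have hed' : e ≤ (d : ℤ) := by exact_mod_cast hed
    have hne : e ≠ (d : ℤ) := by
      intro e'
      refine hnt χ hχ fun z hz => ?_
      by_cases hz1 : z = 1
      · rw [hz1]
      · rw [hconst χ z (orderOf_eq_prime (by rw [pow_two]; exact hexp z hz) hz1), he, e', degree_eq]
        simp [d]
    by_contra hlt
    have hq0 : (0 : ℤ) ≤ q := Nat.cast_nonneg _
    have : (d : ℤ) - e ≤ 0 := by
      have h2 : (q : ℤ) * ((f : ℤ) - e) ≤ 0 := mul_nonpos_of_nonneg_of_nonpos hq0 (by omega)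
      linarith
    omega
  choose! m f hm hf hval hdeg using hmult
  have ho : ∑ χ ∈ prinFin M G, (χ : G → ℂ) 1 * (χ : G → ℂ) t = 0 := by
    refine orth hM 1 t ?_
    rw [(pPartOf_eq_one_iff Nat.prime_two (1 : G)).2 (by simp), isConj_one_right, inv_eq_one]
    intro e
    have h1 : pPartOf 2 t = t := by
      have := (parts_mul Nat.prime_two (Commute.one_right t) ⟨1, by rw [hto, pow_one]⟩ (by simp)).1
      rwa [mul_one] at this
    rw [h1] at e
    rw [e, orderOf_one] at hto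
    omega
  -- comparing the two drops
  have hcmp : ∑ χ ∈ prinRest M G, (charDegree (χ : G → ℂ) : ℤ) * (m χ * q - K) = 0 := by
    have h1 : ((∑ χ ∈ prinFin M G, charDegree (χ : G → ℂ) ^ 2 : ℕ) : ℂ) =
        ∑ χ ∈ prinRest M G, (charDegree (χ : G → ℂ) : ℂ) * ((m χ : ℂ) * q) := by
      rw [Nat.cast_sum, ← sub_zero (∑ χ ∈ prinFin M G, _), ← ho, ← Finset.sum_sub_distrib,
        sum_prinFin hM]
      simp only [Nat.cast_pow, ← degree_eq]
      rw [show ((triv G : IrrCharacter G) : G → ℂ) 1 ^ 2 - (triv G : G → ℂ) 1 * (triv G : G → ℂ) t = 0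
        by simp [triv], zero_add]
      refine Finset.sum_congr rfl fun χ hχ => ?_
      have h := congrArg (fun z : ℤ => (z : ℂ)) (hdeg χ hχ)
      push_cast at h
      rw [← degree_eq] at h
      rw [hval χ hχ]
      push_cast
      linear_combination (χ : G → ℂ) 1 * h
    rw [hKA] at h1
    push_cast at h1
    rw [Finset.mul_sum] at h1
    have h2 : ∑ χ ∈ prinRest M G, (charDegree (χ : G → ℂ) : ℂ) * ((m χ : ℂ) * q - K) = 0 := by
      simp only [mul_sub, Finset.sum_sub_distrib]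
      rw [← h1, sub_eq_zero]
      exact Finset.sum_congr rfl fun χ _ => mul_comm _ _
    exact_mod_cast h2
  have hterm : ∀ χ ∈ prinRest M G, (0 : ℤ) ≤ (charDegree (χ : G → ℂ) : ℤ) * (m χ * q - K) := by
    intro χ hχ
    refine mul_nonneg (Nat.cast_nonneg _) (sub_nonneg.2 ?_)
    calc (K : ℤ) ≤ q := by exact_mod_cast hKq
      _ ≤ m χ * q := le_mul_of_one_le_left (Nat.cast_nonneg _) (hm χ hχ)
  have hmK : ∀ χ ∈ prinRest M G, m χ * q = (K : ℤ) := fun χ hχ => by
    have h := (Finset.sum_eq_zero_iff_of_nonneg hterm).1 hcmp χ hχ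
    rcases mul_eq_zero.1 h with h | h
    · exact absurd (Nat.cast_eq_zero.1 h) (Blocks.charDegree_pos χ.2).ne'
    · linarith
  have hne : (prinRest M G).Nonempty := by
    rw [Finset.nonempty_iff_ne_empty]
    intro e
    rw [e, Finset.sum_empty, mul_zero] at hKA
    have := Finset.single_le_sum (f := fun χ : IrrCharacter G => charDegree (χ : G → ℂ) ^ 2)
      (fun _ _ => Nat.zero_le _) (mem_prinFin.2 (triv_mem_principalBlock (G := G) hM))
    rw [hKA] at this
    exact absurd this (by simp [(Blocks.charDegree_pos (triv G).2).ne'])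
  have hm1 : ∀ χ ∈ prinRest M G, m χ = 1 := fun χ hχ => by
    have h1 := hmK χ hχ
    have h2 := hm χ hχ
    by_contra h
    have h3 : 2 * (q : ℤ) ≤ m χ * q := mul_le_mul_of_nonneg_right (by omega) (Nat.cast_nonneg _)
    have h4 : (K : ℤ) ≤ q := by exact_mod_cast hKq
    have h5 : (2 : ℤ) ≤ q := by exact_mod_cast hq2
    linarith
  have hKeq : K = q := by
    obtain ⟨χ, hχ⟩ := hne
    have := hmK χ hχ
    rw [hm1 χ hχ, one_mul] at this
    exact_mod_cast this.symm
  have hdrop : ∀ χ ∈ prinRest M G, (χ : G → ℂ) t = (χ : G → ℂ) 1 - q := fun χ hχ => by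
    have h := congrArg (fun z : ℤ => (z : ℂ)) (hdeg χ hχ)
    rw [hm1 χ hχ] at h
    push_cast at h
    rw [hval χ hχ, hm1 χ hχ, degree_eq]
    push_cast
    linear_combination -h
  refine ⟨P, hq2, hexp, hto, hinvol, by rw [hKeq], fun χ hχ s hs => ?_, hnt, fun χ hχ => ?_, ?_⟩
  · rw [hconst χ s hs, hdrop χ hχ]
  · have h := hdeg χ hχ
    have h' := hf χ hχ
    rw [hm1 χ hχ] at h
    omega
  · by_contra! hall
    have hbig : ∀ χ ∈ prinRest M G, q ≤ charDegree (χ : G → ℂ) := fun χ hχ => by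
      have h := hdeg χ hχ
      have h' := hf χ hχ
      have h'' := hall χ hχ
      rw [hm1 χ hχ] at h
      omega
    rw [sum_prinFin hM, Finset.sum_congr rfl (fun (χ : IrrCharacter G) hχ => show (χ : G → ℂ) 1 * (χ : G → ℂ) t =
        ((charDegree (χ : G → ℂ) * (charDegree (χ : G → ℂ) - q) : ℕ) : ℂ) by
      rw [hdrop χ hχ, degree_eq, Nat.cast_mul, Nat.cast_sub (hbig χ hχ)]),
      ← Nat.cast_sum] at ho
    simp only [triv, one_mul] at ho
    have : (((1 + ∑ χ ∈ prinRest M G, charDegree (χ : G → ℂ) * (charDegree (χ : G → ℂ) - q)) : ℕ) : ℂ)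
        = 0 := by push_cast; simpa using ho
    rw [Nat.cast_eq_zero] at this
    omega

end Cfsg.Agent.EqualDrop
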