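import Cfsg.Agent.EqualDrop.Basic
import Cfsg.Agent.PairPSolv.Section
import Cfsg.Agent.Coprime.Generation
import Cfsg.Agent.Fusion.ThompsonComplement
import Cfsg.Agent.Fusion.Transfer
import Cfsg.Agent.SylowNumber.Formula
import Mathlib.GroupTheory.FixedPointFree

/-!
# The kernel of a small faithful character near an elementary abelian Sylow subgroup

A character taking the value minus one on all involutions of a self-centralising Sylow subgroup,
with two-nilpotent centralisers, forces the odd parts of those centralisers into the odd core.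
-/

set_option autoImplicit false

namespace Cfsg.Agent.EqualDrop

open scoped ComplexConjugate Pointwise
open scoped _root_.Classical
open Cfsg Cfsg.Agent Cfsg.Agent.Blocks Subgroup

universe u

variable {X : Type u} [Group X] [Fintype X] {M : Ideal Cfsg.AlgInt}

/-- A principal character is constant on the odd coset at an involution with two-nilpotent
centraliser. -/
theorem apply_mul_of_nilpotent_centralizer (hM : Cfsg.IsPModular 2 M) {z y : X}
    (hz : orderOf z = 2) (h2 : Cfsg.HasNormalPComplement 2 (centralizer ({z} : Set X)))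
    {χ : IrrCharacter X} (hχ : χ ∈ Cfsg.principalBlock M X)
    (hy : y ∈ centralizer ({z} : Set X)) (hodd : Odd (orderOf y)) :
    (χ : X → ℂ) (z * y) = (χ : X → ℂ) z := by
  have : Fact (Nat.Prime 2) := ⟨Nat.prime_two⟩
  obtain ⟨P₀, K, hK⟩ := PairPSolv.exists_centData (p := 2) (x := z) ⟨1, by rw [hz, pow_one]⟩ h2
  exact (hK.principal_values hM).2 χ hχ y ((hK.mem y).2 ⟨hy, odd_iff_not_dvd.1 hodd⟩)

/-- Burnside's criterion for a subgroup containing the Sylow subgroup. -/
theorem hasNormalPComplement_of_centralizes {G : Type u} [Group G] [Finite G] (P : Sylow 2 G)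
    {H : Subgroup G} (hPH : (P : Subgroup G) ≤ H)
    (h : ∀ g ∈ H, g ∈ normalizer ((P : Subgroup G) : Set G) →
      g ∈ centralizer ((P : Subgroup G) : Set G)) :
    Cfsg.HasNormalPComplement 2 H := by
  have : Fact (Nat.Prime 2) := ⟨Nat.prime_two⟩
  refine Fusion.hasNormalPComplement_of_normalizer_le_centralizer (P := P.subtype hPH) ?_
  intro n hn
  change n ∈ normalizer (((P.subtype hPH : Sylow 2 H) : Subgroup H) : Set H) at hn
  show n ∈ centralizer (((P.subtype hPH : Sylow 2 H) : Subgroup H) : Set H)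
  rw [Sylow.coe_subtype] at hn ⊢
  have hnG : (n : G) ∈ normalizer ((P : Subgroup G) : Set G) := by
    rw [← subgroupOf_normalizer_eq hPH] at hn
    exact hn
  rw [mem_centralizer_iff]
  intro a ha
  exact Subtype.ext (mem_centralizer_iff.1 (h n n.2 hnG) a (mem_subgroupOf.1 ha))

/-- An odd element of the normaliser centralising a two-nilpotent involution centraliser setting
centralises the Sylow subgroup. -/
theorem commute_of_mem_oddPart {G : Type u} [Group G] [Finite G] (P : Sylow 2 G) {H K : Subgroup G}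
    (hK : ∀ a, a ∈ K ↔ a ∈ H ∧ Odd (orderOf a)) (hKodd : Odd (Nat.card K))
    (hPH : (P : Subgroup G) ≤ H) {h : G} (hh : h ∈ K)
    (hN : h ∈ normalizer ((P : Subgroup G) : Set G)) :
    h ∈ centralizer ((P : Subgroup G) : Set G) := by
  rw [mem_centralizer_iff]
  intro a ha
  have hc1 : h * a * h⁻¹ * a⁻¹ ∈ (P : Subgroup G) :=
    mul_mem ((mem_normalizer_iff.1 hN a).1 ha) (inv_mem ha)
  have hc2 : h * a * h⁻¹ * a⁻¹ ∈ K := by
    have h1 : a * h⁻¹ * a⁻¹ ∈ K := by
      refine (hK _).2 ⟨mul_mem (mul_mem (hPH ha) (inv_mem ((hK h).1 hh).1)) (inv_mem (hPH ha)), ?_⟩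
      rw [← MulAut.conj_apply, MulEquiv.orderOf_eq, orderOf_inv]
      exact ((hK h).1 hh).2
    rw [show h * a * h⁻¹ * a⁻¹ = h * (a * h⁻¹ * a⁻¹) by group]
    exact mul_mem hh h1
  have h1 : h * a * h⁻¹ * a⁻¹ = 1 := by
    rw [← orderOf_eq_one_iff]
    obtain ⟨e, he⟩ := IsPGroup.iff_card.1 P.isPGroup'
    refine Nat.eq_one_of_dvd_coprimes ((Nat.coprime_two_left.2 hKodd).pow_left e)
      (he ▸ orderOf_dvd_natCard (P : Subgroup G) hc1) (orderOf_dvd_natCard K hc2)
  rw [mul_inv_eq_one, mul_inv_eq_iff_eq_mul] at h1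
  exact h1.symm

theorem sum_sylow_sub (P : Sylow 2 X) {χ : X → ℂ}
    (hdeg : χ 1 = (Nat.card (P : Subgroup X) : ℂ) - 1)
    (hval : ∀ z ∈ (P : Subgroup X), z ≠ 1 → χ z = -1) (A : Subgroup X) (hA : A ≤ P) :
    ∑ a : A, χ a = (Nat.card (P : Subgroup X) : ℂ) - (Nat.card A : ℂ) := by
  rw [← Finset.add_sum_erase _ _ (Finset.mem_univ (1 : A)), OneMemClass.coe_one, hdeg,
    Finset.sum_congr rfl (fun (a : A) ha => hval a (hA a.2)
      (fun e => (Finset.mem_erase.1 ha).1 (Subtype.ext e))),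
    Finset.sum_const, Finset.card_erase_of_mem (Finset.mem_univ _), Finset.card_univ,
    ← Nat.card_eq_fintype_card, nsmul_eq_mul, Nat.cast_sub Nat.card_pos]
  push_cast
  ring

/-- The centraliser of the Sylow subgroup is the Sylow subgroup. -/
theorem centralizer_sylow_le (hM : Cfsg.IsPModular 2 M) (hcore : Cfsg.oddCore X = ⊥)
    (P : Sylow 2 X) (hexp : ∀ x ∈ (P : Subgroup X), x * x = 1)
    (hq : 2 ≤ Nat.card (P : Subgroup X))
    (hconj : ∀ a b : X, orderOf a = 2 → orderOf b = 2 → IsConj a b)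
    (χ : IrrCharacter X) (hχ : χ ∈ Cfsg.principalBlock M X)
    (hdeg : (χ : X → ℂ) 1 = (Nat.card (P : Subgroup X) : ℂ) - 1)
    (hval : ∀ z : X, orderOf z = 2 → (χ : X → ℂ) z = -1) :
    centralizer ((P : Subgroup X) : Set X) ≤ P := by
  have : Fact (Nat.Prime 2) := ⟨Nat.prime_two⟩
  set q := Nat.card (P : Subgroup X) with hqdef
  have hcomm : ∀ a ∈ (P : Subgroup X), ∀ b ∈ (P : Subgroup X), a * b = b * a := fun a ha b hb => by
    have hai : a⁻¹ = a := inv_eq_of_mul_eq_one_right (hexp a ha)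
    have hbi : b⁻¹ = b := inv_eq_of_mul_eq_one_right (hexp b hb)
    rw [← inv_eq_of_mul_eq_one_right (hexp _ (mul_mem ha hb)), mul_inv_rev, hai, hbi]
  have hord : ∀ z ∈ (P : Subgroup X), z ≠ 1 → orderOf z = 2 := fun z hz h1 =>
    orderOf_eq_prime (by rw [pow_two]; exact hexp z hz) h1
  set C := centralizer ((P : Subgroup X) : Set X) with hC
  have hPC : (P : Subgroup X) ≤ C := fun a ha => mem_centralizer_iff.2 fun b hb => hcomm b hb a ha
  obtain ⟨D, hD, hDodd, hCD⟩ := exists_oddPart C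
    (hasNormalPComplement_of_centralizes P hPC fun g hg _ => hg)
  set N := normalizer ((P : Subgroup X) : Set X) with hN
  have hDn : ∀ n ∈ N, ∀ d ∈ D, n * d * n⁻¹ ∈ D := by
    intro n hn d hd
    obtain ⟨hdC, hdo⟩ := (hD d).1 hd
    refine (hD _).2 ⟨?_, by rwa [← MulAut.conj_apply, MulEquiv.orderOf_eq]⟩
    rw [hC, mem_centralizer_iff] at hdC ⊢
    intro a ha
    have h1 := hdC _ ((mem_normalizer_iff.1 (inv_mem hn) a).1 ha)
    calc a * (n * d * n⁻¹) = n * (n⁻¹ * a * n⁻¹⁻¹ * d) * n⁻¹ := by group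
      _ = n * (d * (n⁻¹ * a * n⁻¹⁻¹)) * n⁻¹ := by rw [h1]
      _ = n * d * n⁻¹ * a := by group
  have hPN : (P : Subgroup X) ≤ N := le_normalizer
  have hDN : D ≤ N := fun d hd => by
    rw [hN, mem_normalizer_iff]
    intro a
    have h := mem_centralizer_iff.1 ((hD d).1 hd).1
    constructor
    · intro ha; rwa [← h a ha, mul_inv_cancel_right]
    · intro ha
      have h1 := h _ ha
      have : d * a * d⁻¹ = a := by
        have h2 : d * a = d * (d * a * d⁻¹) := by
          rw [← h1]; group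
        exact (mul_left_cancel h2).symm
      rwa [this] at ha
  have : (D.subgroupOf N).Normal := ⟨fun d hd n => mem_subgroupOf.2 (hDn n n.2 d (mem_subgroupOf.1 hd))⟩
  obtain ⟨m, hm, -⟩ := exists_split (Char.isCharacter_res N (Char.IsIrr.isCharacter χ.2))
  -- some constituent is trivial on the odd part
  obtain ⟨ψ, hψm, hψD⟩ : ∃ ψ : IrrCharacter N, m ψ ≠ 0 ∧
      ∀ d ∈ D.subgroupOf N, (ψ : N → ℂ) d = (ψ : N → ℂ) 1 := by
    by_contra! hcon
    have h0 : ∑ d : D.subgroupOf N, (χ : X → ℂ) ((d : N) : X) = 0 := by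
      simp only [hm]
      rw [Finset.sum_comm]
      refine Finset.sum_eq_zero fun φ _ => ?_
      rw [← Finset.mul_sum]
      by_cases hφ : m φ = 0
      · rw [hφ, Nat.cast_zero, zero_mul]
      rcases trivial_or_sum_eq_zero φ (D.subgroupOf N) with h | h
      · obtain ⟨d, hd, hne⟩ := hcon φ hφ
        exact absurd (h d hd) hne
      · have := h 1
        simp only [mul_one] at this
        rw [this, mul_zero]
    have h1 : Cfsg.MemLocalIdeal M
        (∑ d : D.subgroupOf N, ((χ : X → ℂ) ((d : N) : X) - (χ : X → ℂ) 1)) :=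
      memLocalIdeal_sum hM _ fun d _ => congr_of_mem_principal hM P hχ ((hD _).1 (mem_subgroupOf.1 d.2)).1
    rw [Finset.sum_sub_distrib, h0, zero_sub, Finset.sum_const, Finset.card_univ,
      ← Nat.card_eq_fintype_card, nsmul_eq_mul, hdeg] at h1
    have h2 := memLocalIdeal_neg h1
    rw [neg_neg, ← Nat.cast_one, ← Nat.cast_sub (by omega), ← Nat.cast_mul,
      memLocalIdeal_natCast_iff hM] at h2
    have hDc : Odd (Nat.card (D.subgroupOf N)) := by
      rwa [Nat.card_congr (subgroupOfEquivOfLe hDN).toEquiv]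
    have hq1 : Odd (q - 1) := by
      obtain ⟨e, he⟩ := IsPGroup.iff_card.1 P.isPGroup'
      rw [hqdef, he]
      rcases e with _ | e
      · rw [hqdef, he] at hq; simp at hq
      · exact Nat.Even.sub_odd Nat.one_le_two_pow (Nat.even_pow.2 ⟨even_two, Nat.succ_ne_zero e⟩) odd_one
    exact (hDc.mul hq1).not_two_dvd_nat h2
  -- it carries every nontrivial character of the Sylow subgroup
  set P' := (P : Subgroup X).subgroupOf N with hP'
  have hcardP' : Nat.card P' = q := Nat.card_congr (subgroupOfEquivOfLe hPN).toEquiv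
  obtain ⟨f, hf⟩ := exists_sum_eq (Char.IsIrr.isCharacter ψ.2) P'
  choose fφ hfφ using fun φ : IrrCharacter N => exists_sum_eq (Char.IsIrr.isCharacter φ.2) P'
  have hzero : ∑ a : P', (χ : X → ℂ) ((a : N) : X) = 0 := by
    rw [← Equiv.sum_comp (subgroupOfEquivOfLe hPN).symm.toEquiv]
    have h := sum_sylow_sub P hdeg (fun z hz h1 => hval z (hord z hz h1)) (P : Subgroup X) le_rfl
    rw [sub_self] at h
    exact h
  have hf0 : fφ ψ = 0 := by
    simp only [hm] at hzero
    rw [Finset.sum_comm] at hzero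
    simp only [← Finset.mul_sum, hfφ, ← mul_assoc, mul_comm (m _ : ℂ) (Nat.card P' : ℂ)] at hzero
    simp only [mul_assoc, ← Finset.mul_sum, mul_eq_zero, Nat.cast_ne_zero.2 Nat.card_pos.ne',
      false_or, ← Nat.cast_mul, ← Nat.cast_sum, Nat.cast_eq_zero, Finset.sum_eq_zero_iff,
      Finset.mem_univ, true_implies] at hzero
    have h := hzero.resolve_left Nat.card_pos.ne' ψ
    simpa [hψm] using h
  obtain ⟨dψ, hdψ0, hdψ, -⟩ := exists_degree ψ
  obtain ⟨s, hs⟩ : ∃ s : P', s ≠ 1 := by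
    have : Nontrivial P' := by
      rw [← Finite.one_lt_card_iff_nontrivial, hcardP']
      omega
    exact exists_ne 1
  have hψconst : ∀ a : P', a ≠ 1 → (ψ : N → ℂ) (a : N) = (ψ : N → ℂ) (s : N) := by
    intro a ha
    have ha1 : ((a : N) : X) ≠ 1 := fun e => ha (Subtype.ext (Subtype.ext e))
    have hs1 : ((s : N) : X) ≠ 1 := fun e => hs (Subtype.ext (Subtype.ext e))
    have haP := mem_subgroupOf.1 a.2
    have hsP := mem_subgroupOf.1 s.2
    obtain ⟨w, hw⟩ := isConj_iff.1 (hconj _ _ (hord _ haP ha1) (hord _ hsP hs1))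
    obtain ⟨n, hn, hn'⟩ := Fusion.exists_mem_normalizer_conj_of_isMulCommutative (P := P)
      ⟨⟨fun x y => Subtype.ext (hcomm x x.2 y y.2)⟩⟩ haP w (by rw [hw]; exact hsP)
    have h := Char.isClassFunction_of_isIrr ψ.2 (a : N) ⟨n, hn⟩
    rw [← h]
    refine (congrArg (ψ : N → ℂ) (Subtype.ext ?_ :
      (s : N) = (⟨n, hn⟩ : N) * (a : N) * (⟨n, hn⟩ : N)⁻¹)).symm.trans ?_
    · show ((s : N) : X) = n * ((a : N) : X) * n⁻¹
      rw [hn', hw]
    · rfl
  have hval2 : (dψ : ℂ) + ((q : ℂ) - 1) * (ψ : N → ℂ) (s : N) = 0 := by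
    have h := hfφ ψ
    rw [hf0, Nat.cast_zero, mul_zero, ← Finset.add_sum_erase _ _ (Finset.mem_univ (1 : P')),
      OneMemClass.coe_one, hdψ,
      Finset.sum_congr rfl (fun (a : P') ha => hψconst a (Finset.mem_erase.1 ha).1),
      Finset.sum_const, Finset.card_erase_of_mem (Finset.mem_univ _), Finset.card_univ,
      ← Nat.card_eq_fintype_card, hcardP', nsmul_eq_mul, Nat.cast_sub (by omega), Nat.cast_one] at h
    exact h
  have hq1 : ((q : ℂ) - 1) ≠ 0 := by
    intro e
    have : (q : ℂ) = ((1 : ℕ) : ℂ) := by rw [Nat.cast_one]; linear_combination e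
    have := Nat.cast_injective this
    omega
  obtain ⟨c, hc⟩ := Blocks.exists_int_of_isIntegral_rat
    (Char.IsChar.isIntegral (Char.IsIrr.isCharacter ψ.2) (s : N)) (-(dψ : ℚ) / ((q : ℚ) - 1)) (by
      push_cast
      rw [eq_div_iff hq1]
      linear_combination hval2)
  have hdz : (dψ : ℤ) + ((q : ℤ) - 1) * c = 0 := by
    rw [hc] at hval2
    exact_mod_cast hval2
  have hdvd : q - 1 ∣ dψ := Int.natCast_dvd_natCast.1 ⟨-c, by
    rw [Nat.cast_sub (by omega), Nat.cast_one]; linear_combination hdz⟩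
  have hge : q - 1 ≤ dψ := Nat.le_of_dvd hdψ0 hdvd
  choose dφ hdφ0 hdφ _hdφ' using fun φ : IrrCharacter N => exists_degree φ
  have hdsum : ∑ φ, m φ * dφ φ = q - 1 := by
    have h := hm 1
    simp only [hdφ] at h
    rw [OneMemClass.coe_one, hdeg, ← Nat.cast_one, ← Nat.cast_sub (by omega)] at h
    exact_mod_cast h.symm
  have hdψ' : dφ ψ = dψ := by
    have := hdφ ψ
    rw [hdψ] at this
    exact_mod_cast this.symm
  have honly : ∀ φ, φ ≠ ψ → m φ = 0 := by
    intro φ hne
    by_contra hφ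
    have h1 : m ψ * dφ ψ + m φ * dφ φ ≤ ∑ φ, m φ * dφ φ := by
      rw [← Finset.sum_pair (f := fun φ => m φ * dφ φ) (Ne.symm hne)]
      exact Finset.sum_le_sum_of_subset (Finset.subset_univ _)
    have h2 : dφ ψ ≤ m ψ * dφ ψ := Nat.le_mul_of_pos_left _ (Nat.pos_of_ne_zero hψm)
    have h3 : 0 < m φ * dφ φ := Nat.mul_pos (Nat.pos_of_ne_zero hφ) (hdφ0 φ)
    omega
  intro a ha
  have hsup := hCD (P : Subgroup X) hPC (factorization_eq_of_le P hPC) ha
  suffices hDbot : D = ⊥ by rwa [hDbot, bot_sup_eq] at hsup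
  rw [eq_bot_iff]
  intro d hd
  have hdker : d ∈ Char.kerSubgroup (Char.IsIrr.isCharacter χ.2) := by
    rw [Char.mem_kerSubgroup]
    have h1 := hm ⟨d, hDN hd⟩
    have h2 := hm 1
    rw [Finset.sum_eq_single ψ (fun φ _ hne => by rw [honly φ hne]; simp) (by simp)] at h1 h2
    rw [h1, hψD ⟨d, hDN hd⟩ (mem_subgroupOf.2 hd), ← h2]
    rfl
  have hKodd : ¬ 2 ∣ Nat.card (Char.kerSubgroup (Char.IsIrr.isCharacter χ.2)) := by
    intro h2
    obtain ⟨y, hy⟩ := exists_prime_orderOf_dvd_card' (G := Char.kerSubgroup (Char.IsIrr.isCharacter χ.2)) 2 h2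
    have h1 := (Char.mem_kerSubgroup (Char.IsIrr.isCharacter χ.2)).1 y.2
    rw [hval y (by rw [Subgroup.orderOf_coe, hy]), hdeg] at h1
    have : ((q : ℕ) : ℂ) = ((0 : ℕ) : ℂ) := by rw [Nat.cast_zero]; linear_combination -h1
    have := Nat.cast_injective this
    omega
  have hle : Char.kerSubgroup (Char.IsIrr.isCharacter χ.2) ≤ Cfsg.oddCore X :=
    le_sSup ⟨inferInstance, (Nat.prime_two.coprime_iff_not_dvd.2 hKodd).symm⟩
  rw [hcore] at hle
  exact hle hdker

/-- The odd parts of the involution centralisers outside a central subgroup lie in the odd core. -/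
theorem odd_centralizer_le_core (hM : Cfsg.IsPModular 2 M) (P : Sylow 2 X)
    (hexp : ∀ x ∈ (P : Subgroup X), x * x = 1)
    (hCP : centralizer ((P : Subgroup X) : Set X) ≤ P)
    (R : Subgroup X) (hRP : R ≤ P) (hRc : R ≤ center X) (hlt : R ≠ (P : Subgroup X))
    (h2 : ∀ z ∈ (P : Subgroup X), z ∉ R → Cfsg.HasNormalPComplement 2 (centralizer ({z} : Set X)))
    {χ : X → ℂ} (hχ : IsCharacter X χ) (hdeg : χ 1 = (Nat.card (P : Subgroup X) : ℂ) - 1)
    (hval : ∀ z ∈ (P : Subgroup X), z ≠ 1 → χ z = -1) {z : X} (hz : z ∈ (P : Subgroup X))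
    (hzR : z ∉ R) {y : X} (hy : y ∈ centralizer ({z} : Set X)) (hyodd : Odd (orderOf y)) :
    y ∈ Cfsg.oddCore X := by
  have : Fact (Nat.Prime 2) := ⟨Nat.prime_two⟩
  set q := Nat.card (P : Subgroup X) with hqdef
  have hcomm : ∀ a ∈ (P : Subgroup X), ∀ b ∈ (P : Subgroup X), a * b = b * a := fun a ha b hb => by
    have hai : a⁻¹ = a := inv_eq_of_mul_eq_one_right (hexp a ha)
    have hbi : b⁻¹ = b := inv_eq_of_mul_eq_one_right (hexp b hb)
    rw [← inv_eq_of_mul_eq_one_right (hexp _ (mul_mem ha hb)), mul_inv_rev, hai, hbi]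
  have hord : ∀ a ∈ (P : Subgroup X), a ≠ 1 → orderOf a = 2 := fun a ha h1 =>
    orderOf_eq_prime (by rw [pow_two]; exact hexp a ha) h1
  have hRn : R.Normal := ⟨fun r hr x => by
    rw [mem_center_iff.1 (hRc hr) x, mul_inv_cancel_right]; exact hr⟩
  obtain ⟨m, hm, -⟩ := exists_split hχ
  choose d hd0 hd hdd using fun ψ : IrrCharacter X => exists_degree ψ
  choose fR hfR using fun ψ : IrrCharacter X => exists_sum_eq (Char.IsIrr.isCharacter ψ.2) R
  -- an odd constituent trivial on the central subgroup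
  obtain ⟨ξ, hξm, hξodd, hξR⟩ : ∃ ξ : IrrCharacter X, m ξ ≠ 0 ∧ Odd (d ξ) ∧
      ∀ r ∈ R, (ξ : X → ℂ) r = (ξ : X → ℂ) 1 := by
    by_contra! hcon
    have hs := sum_sylow_sub P hdeg hval R hRP
    simp only [hm] at hs
    rw [Finset.sum_comm] at hs
    simp only [← Finset.mul_sum, hfR] at hs
    rw [← Nat.cast_sub (Nat.le_of_dvd Nat.card_pos (card_dvd_of_le hRP))] at hs
    have hsN : ∑ ψ, m ψ * (Nat.card R * fR ψ) = q - Nat.card R := by exact_mod_cast hs
    have hf2 : ∀ ψ : IrrCharacter X, 2 ∣ m ψ * fR ψ := by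
      intro ψ
      by_cases h0 : m ψ = 0
      · simp [h0]
      rcases trivial_or_sum_eq_zero ψ R with h | h
      · have hev : Even (d ψ) := by
          by_contra hne
          obtain ⟨r, hr, hne'⟩ := hcon ψ h0 (Nat.not_even_iff_odd.1 hne)
          exact hne' (h r hr)
        have h1 := hfR ψ
        rw [Finset.sum_congr rfl (fun (r : R) _ => h r r.2), Finset.sum_const, Finset.card_univ,
          ← Nat.card_eq_fintype_card, nsmul_eq_mul, hd] at h1
        have h2 : Nat.card R * d ψ = Nat.card R * fR ψ := by exact_mod_cast h1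
        rw [← Nat.eq_of_mul_eq_mul_left Nat.card_pos h2]
        exact hev.two_dvd.mul_left _
      · have h1 := hfR ψ
        have h3 := h 1
        simp only [mul_one] at h3
        rw [h3] at h1
        have h2 : Nat.card R * fR ψ = 0 := by exact_mod_cast h1.symm
        rw [(mul_eq_zero.1 h2).resolve_left Nat.card_pos.ne', mul_zero]
        exact dvd_zero 2
    obtain ⟨j, hj⟩ := Finset.dvd_sum (s := Finset.univ) fun ψ _ => hf2 ψ
    obtain ⟨e, he⟩ := IsPGroup.iff_card.1 P.isPGroup'
    obtain ⟨i, hi, hiR⟩ := (Nat.dvd_prime_pow Nat.prime_two).1 (he ▸ card_dvd_of_le hRP)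
    have hie : i < e := by
      rcases lt_or_eq_of_le hi with h | h
      · exact h
      · exact absurd (Subgroup.eq_of_le_of_card_ge hRP (by rw [hiR, he, h])) hlt
    have h4 : q - Nat.card R = 2 ^ i * (2 * j) := by
      rw [← hsN, ← hj, hiR, Finset.mul_sum]
      exact Finset.sum_congr rfl fun ψ _ => by ring
    obtain ⟨l, rfl⟩ : ∃ l, e = i + 1 + l := ⟨e - i - 1, by omega⟩
    rw [hqdef, he, hiR, show 2 ^ (i + 1 + l) = 2 ^ i * (2 * 2 ^ l) by ring] at h4
    have h5 : 2 ^ i * (2 * 2 ^ l) - 2 ^ i = 2 ^ i * (2 * 2 ^ l - 1) := by rw [Nat.mul_sub, mul_one]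
    rw [h5] at h4
    have := Nat.eq_of_mul_eq_mul_left (pow_pos two_pos i) h4
    have := Nat.one_le_two_pow (n := l)
    omega
  have hξP : ξ ∈ Cfsg.principalBlock M X :=
    mem_principal_of_odd hM P ξ (by rw [hdd]; exact hξodd) fun a ha => by
      obtain ⟨k, hk⟩ := P.isPGroup' ⟨a, hCP ha⟩
      obtain ⟨i, -, hi⟩ := (Nat.dvd_prime_pow Nat.prime_two).1 (orderOf_dvd_of_pow_eq_one
        (show a ^ 2 ^ k = 1 from congrArg Subtype.val hk))
      exact memLocalIdeal_char_sub_degree hM (Char.IsIrr.isCharacter ξ.2) ⟨i, hi⟩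
  -- fixed points in the constituent
  have hbound : ∀ A : Subgroup X, A ≤ P → ∃ f : ℕ, ∑ a : A, (ξ : X → ℂ) a = (Nat.card A : ℂ) * f ∧
      Nat.card A * f ≤ q - Nat.card A := by
    intro A hA
    choose f hf using fun ψ : IrrCharacter X => exists_sum_eq (Char.IsIrr.isCharacter ψ.2) A
    refine ⟨f ξ, hf ξ, ?_⟩
    have hs := sum_sylow_sub P hdeg hval A hA
    simp only [hm] at hs
    rw [Finset.sum_comm] at hs
    simp only [← Finset.mul_sum, hf] at hs
    rw [← Nat.cast_sub (Nat.le_of_dvd Nat.card_pos (card_dvd_of_le hA))] at hs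
    have hsN : ∑ ψ, m ψ * (Nat.card A * f ψ) = q - Nat.card A := by exact_mod_cast hs
    calc Nat.card A * f ξ ≤ m ξ * (Nat.card A * f ξ) :=
          Nat.le_mul_of_pos_left _ (Nat.pos_of_ne_zero hξm)
      _ ≤ _ := hsN ▸ Finset.single_le_sum (f := fun ψ => m ψ * (Nat.card A * f ψ))
          (fun _ _ => Nat.zero_le _) (Finset.mem_univ ξ)
  set Kx := Char.kerSubgroup (Char.IsIrr.isCharacter ξ.2) with hKx
  -- the Sylow subgroup is not in the kernel
  have hPK : ¬ (P : Subgroup X) ≤ Kx := by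
    intro hle
    obtain ⟨f, hf, hfb⟩ := hbound P le_rfl
    rw [Nat.sub_self, Nat.le_zero, mul_eq_zero] at hfb
    rw [hfb.resolve_left Nat.card_pos.ne', Nat.cast_zero, mul_zero,
      Finset.sum_congr rfl (fun (a : (P : Subgroup X)) _ => (Char.mem_kerSubgroup _).1 (hle a.2)),
      Finset.sum_const, Finset.card_univ, nsmul_eq_mul, hd] at hf
    rcases mul_eq_zero.1 hf with h | h
    · exact Fintype.card_ne_zero (Nat.cast_eq_zero.1 h)
    · exact (hd0 ξ).ne' (Nat.cast_eq_zero.1 h)
  -- hyperplanes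
  have hplane : ∀ A : Subgroup X, A ≤ P → R ≤ A → Nat.card A * 2 = q → ∀ z₀ ∈ A, z₀ ∉ R →
      ∀ w ∈ centralizer (A : Set X), Odd (orderOf w) → w ∈ Kx := by
    intro A hAP hRA hA2 z₀ hz₀ hz₀R w hw hwodd
    set H := centralizer (A : Set X) with hH
    have hPH : (P : Subgroup X) ≤ H := fun b hb =>
      mem_centralizer_iff.2 fun a ha => hcomm a (hAP ha) b hb
    have hAH : A ≤ H := fun a ha => hPH (hAP ha)
    have h2H : Cfsg.HasNormalPComplement 2 H :=
      Fusion.hasNormalPComplement_of_le (centralizer_le (Set.singleton_subset_iff.2 hz₀))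
        (h2 z₀ (hAP hz₀) hz₀R)
    obtain ⟨KA, hKA, hKAodd, -⟩ := exists_oddPart H h2H
    have : (A.subgroupOf H).Normal := ⟨fun a ha h => by
      rw [mem_subgroupOf] at ha ⊢
      have := mem_centralizer_iff.1 h.2 _ ha
      rw [Subgroup.coe_mul, Subgroup.coe_mul, InvMemClass.coe_inv, ← this, mul_inv_cancel_right]
      exact ha⟩
    obtain ⟨ψ, hψc, hψ⟩ := exists_fixed_part (Char.isCharacter_res H (Char.IsIrr.isCharacter ξ.2))
      (A.subgroupOf H)
    have hcardA : (Nat.card (A.subgroupOf H) : ℂ) = (Nat.card A : ℂ) := by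
      rw [Nat.card_congr (subgroupOfEquivOfLe hAH).toEquiv]
    have hψA : ∀ b : H, ∑ a : A, (ξ : X → ℂ) ((a : X) * b) = (Nat.card A : ℂ) * ψ b := by
      intro b
      rw [← hcardA, ← hψ b, ← Equiv.sum_comp (subgroupOfEquivOfLe hAH).toEquiv]
      rfl
    obtain ⟨f, hf, hfb⟩ := hbound A hAP
    have hA0 : (Nat.card A : ℂ) ≠ 0 := Nat.cast_ne_zero.2 Nat.card_pos.ne'
    have hψ1 : ψ 1 = (f : ℂ) := by
      have h := hψA 1
      simp only [OneMemClass.coe_one, mul_one] at h
      rw [hf] at h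
      exact (mul_left_cancel₀ hA0 h).symm
    have hf1 : f ≤ 1 := by
      have hA0' : 0 < Nat.card A := Nat.card_pos
      refine Nat.le_of_mul_le_mul_left (c := Nat.card A) ?_ hA0'
      omega
    have hψw : ψ ⟨w, hw⟩ = ψ 1 := by
      rcases Nat.le_one_iff_eq_zero_or_eq_one.1 hf1 with rfl | rfl
      · rw [Nat.cast_zero] at hψ1
        have h := Char.IsChar.norm_le hψc ⟨w, hw⟩
        rw [hψ1, Complex.zero_re] at h
        rw [hψ1, ← norm_le_zero_iff]
        exact h
      rw [Nat.cast_one] at hψ1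
      obtain ⟨hom, hhom⟩ := Char.IsChar.exists_hom hψc hψ1
      obtain ⟨s, hsP, hsA⟩ : ∃ s ∈ (P : Subgroup X), s ∉ A := by
        by_contra! h
        have h1 := Nat.le_of_dvd Nat.card_pos (card_dvd_of_le (show (P : Subgroup X) ≤ A from h))
        have : 0 < Nat.card A := Nat.card_pos
        omega
      have hs2 : s * s = 1 := hexp s hsP
      have hsinv : s⁻¹ = s := inv_eq_of_mul_eq_one_right hs2
      have hKs : ∀ b : KA, s * (b : X) * s⁻¹ ∈ KA := fun b => (hKA _).2
        ⟨mul_mem (mul_mem (hPH hsP) ((hKA _).1 b.2).1) (inv_mem (hPH hsP)), by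
          rw [← MulAut.conj_apply, MulEquiv.orderOf_eq]; exact ((hKA _).1 b.2).2⟩
      let σ : KA →* KA :=
        { toFun := fun b => ⟨s * (b : X) * s⁻¹, hKs b⟩
          map_one' := Subtype.ext (show s * 1 * s⁻¹ = 1 by group)
          map_mul' := fun a b => Subtype.ext (show s * ((a : X) * b) * s⁻¹ =
            s * a * s⁻¹ * (s * b * s⁻¹) by group) }
      have hinvol : Function.Involutive σ := fun b => Subtype.ext (by
        show s * (s * (b : X) * s⁻¹) * s⁻¹ = b
        calc s * (s * (b : X) * s⁻¹) * s⁻¹ = (s * s) * (b : X) * (s * s)⁻¹ := by group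
          _ = b := by rw [hs2]; group)
      have hfpf : MonoidHom.FixedPointFree σ := by
        intro b hb
        have hbs : s * (b : X) = (b : X) * s :=
          mul_inv_eq_iff_eq_mul.1 (congrArg Subtype.val hb)
        have hPle : (P : Subgroup X) ≤ centralizer ({(b : X)} : Set X) := by
          have h1 : A ⊔ zpowers s ≤ centralizer ({(b : X)} : Set X) :=
            sup_le (fun a ha => mem_centralizer_singleton_iff.2
              (mem_centralizer_iff.1 ((hKA _).1 b.2).1 a ha))
              (zpowers_le.2 (mem_centralizer_singleton_iff.2 hbs))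
          refine le_trans ?_ h1
          have hle : A ⊔ zpowers s ≤ P := sup_le hAP (zpowers_le.2 hsP)
          refine (Subgroup.eq_of_le_of_card_ge hle ?_).ge
          obtain ⟨c, hc⟩ := card_dvd_of_le (le_sup_left : A ≤ A ⊔ zpowers s)
          rcases c with _ | _ | c
          · rw [mul_zero] at hc; exact absurd hc Nat.card_pos.ne'
          · rw [zero_add, mul_one] at hc
            exact absurd ((Subgroup.eq_of_le_of_card_ge (le_sup_left : A ≤ A ⊔ zpowers s) hc.le).ge
              ((le_sup_right : zpowers s ≤ A ⊔ zpowers s) (mem_zpowers s))) hsA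
          · rw [hc, ← hqdef, ← hA2]
            exact Nat.mul_le_mul_left _ (by omega)
        have hbC : (b : X) ∈ (P : Subgroup X) := hCP (mem_centralizer_iff.2 fun a ha =>
          mem_centralizer_singleton_iff.1 (hPle ha))
        refine Subtype.ext ?_
        show (b : X) = 1
        rw [← orderOf_eq_one_iff]
        obtain ⟨e, he⟩ := IsPGroup.iff_card.1 P.isPGroup'
        exact Nat.eq_one_of_dvd_coprimes
          ((Nat.coprime_two_left.2 ((hKA _).1 b.2).2).pow_left e)
          (he ▸ orderOf_dvd_natCard (P : Subgroup X) hbC) dvd_rfl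
      have hinv := congrFun (hfpf.coe_eq_inv_of_involutive hinvol) ⟨w, (hKA w).2 ⟨hw, hwodd⟩⟩
      have hsw : s * w * s⁻¹ = w⁻¹ := congrArg Subtype.val hinv
      set w' : H := ⟨w, hw⟩
      have h1 : hom w' = hom w'⁻¹ := by
        rw [show w'⁻¹ = (⟨s, hPH hsP⟩ : H) * w' * (⟨s, hPH hsP⟩ : H)⁻¹ from Subtype.ext hsw.symm,
          map_mul, map_mul, map_inv, mul_comm (hom ⟨s, hPH hsP⟩), mul_inv_cancel_right]
      have h2' : hom w' ^ 2 = 1 := by
        rw [pow_two]
        nth_rewrite 2 [h1]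
        rw [map_inv, mul_inv_cancel]
      have h3 : hom w' = 1 := by
        have ho : hom w' ^ orderOf w = 1 := by
          rw [← map_pow, show w' ^ orderOf w = 1 from Subtype.ext (by
            rw [SubgroupClass.coe_pow, pow_orderOf_eq_one]; rfl), map_one]
        have h := (pow_gcd_eq_one (m := 2) (n := orderOf w)).2 ⟨h2', ho⟩
        rwa [Nat.Coprime.gcd_eq_one (Nat.coprime_two_left.2 hwodd), pow_one] at h
      rw [hψ1, hhom]
      show ((hom w' : ℂˣ) : ℂ) = 1
      rw [h3, Units.val_one]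
    have key : ∀ a : A, (ξ : X → ℂ) ((a : X) * w) - (ξ : X → ℂ) ((a : X) * 1) =
        if (a : X) ∈ R then (ξ : X → ℂ) w - (ξ : X → ℂ) 1 else 0 := by
      intro a
      rw [mul_one]
      split_ifs with haR
      · rw [Char.IsChar.mul_left_of_mem_kernel (Char.IsIrr.isCharacter ξ.2) (hξR a haR) w,
          hξR a haR]
      · rw [apply_mul_of_nilpotent_centralizer hM
          (hord a (hAP a.2) (fun e => haR (e ▸ one_mem R)))
          (h2 a (hAP a.2) haR) hξP
          (mem_centralizer_singleton_iff.2 (mem_centralizer_iff.1 hw a a.2).symm) hwodd, sub_self]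
    have hsum : ∑ a : A, ((ξ : X → ℂ) ((a : X) * w) - (ξ : X → ℂ) ((a : X) * 1)) = 0 := by
      rw [Finset.sum_sub_distrib, hψA ⟨w, hw⟩]
      have h := hψA 1
      simp only [OneMemClass.coe_one] at h
      rw [h, hψw, sub_self]
    rw [Finset.sum_congr rfl fun a _ => key a, ← Finset.sum_filter, Finset.sum_const,
      nsmul_eq_mul, mul_eq_zero, Nat.cast_eq_zero, Finset.card_eq_zero] at hsum
    rcases hsum with h | h
    · exact absurd h (Finset.nonempty_iff_ne_empty.1 ⟨(1 : A), by simp⟩)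
    · exact (Char.mem_kerSubgroup _).2 (sub_eq_zero.1 h)
  -- all odd parts lie in the kernel
  have hker : ∀ z₀ ∈ (P : Subgroup X), z₀ ∉ R → ∀ w ∈ centralizer ({z₀} : Set X),
      Odd (orderOf w) → w ∈ Kx := by
    intro z₀ hz₀ hz₀R w hw hwodd
    obtain ⟨K, hK, hKodd, -⟩ := exists_oddPart _ (h2 z₀ hz₀ hz₀R)
    have hPC : (P : Subgroup X) ≤ centralizer ({z₀} : Set X) := fun a ha =>
      mem_centralizer_singleton_iff.2 (hcomm a ha z₀ hz₀)
    have hPK' : (P : Subgroup X) ≤ normalizer (K : Set X) := by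
      intro a ha
      rw [mem_normalizer_iff]
      intro b
      rw [hK, hK, ← MulAut.conj_apply, MulEquiv.orderOf_eq]
      refine and_congr_left' ⟨fun h => mul_mem (mul_mem (hPC ha) h) (inv_mem (hPC ha)), fun h => ?_⟩
      have h' := mul_mem (mul_mem (inv_mem (hPC ha)) h) (hPC ha)
      simpa [mul_assoc] using h'
    have : IsMulCommutative (P : Subgroup X) :=
      ⟨⟨fun a b => Subtype.ext (hcomm a a.2 b b.2)⟩⟩
    have hcop : (Nat.card (P : Subgroup X)).Coprime (Nat.card K) := by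
      obtain ⟨e, he⟩ := IsPGroup.iff_card.1 P.isPGroup'
      rw [he]
      exact (Nat.coprime_two_left.2 hKodd).pow_left e
    have hwK : w ∈ K := (hK w).2 ⟨hw, hwodd⟩
    rw [← Coprime.iSup_cocyclic_centralizer_eq (A := (P : Subgroup X)) hPK' hcop] at hwK
    refine (iSup₂_le fun B hB => ?_ :
      (⨆ B ∈ Coprime.Cocyclic (P : Subgroup X), K ⊓ centralizer (B : Set X)) ≤ Kx) hwK
    intro k hk
    obtain ⟨hBP, a, ha, haB⟩ := hB
    obtain ⟨hkK, hkodd⟩ := (hK k).1 hk.1
    set B' := B ⊔ R ⊔ zpowers z₀ with hB'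
    have hB'P : B' ≤ P := sup_le (sup_le hBP hRP) (zpowers_le.2 hz₀)
    have hkB' : k ∈ centralizer (B' : Set X) := by
      have h1 : B' ≤ centralizer ({k} : Set X) := sup_le (sup_le
        (fun b hb => mem_centralizer_singleton_iff.2 (mem_centralizer_iff.1 hk.2 b hb))
        (fun r hr => mem_centralizer_singleton_iff.2 (mem_center_iff.1 (hRc hr) k).symm))
        (zpowers_le.2 (mem_centralizer_singleton_iff.2 (mem_centralizer_singleton_iff.1 hkK).symm))
      exact mem_centralizer_iff.2 fun b hb => mem_centralizer_singleton_iff.1 (h1 hb)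
    by_cases hB'eq : B' = P
    · rw [hB'eq] at hkB'
      have hkP := hCP hkB'
      have : k = 1 := by
        rw [← orderOf_eq_one_iff]
        obtain ⟨e, he⟩ := IsPGroup.iff_card.1 P.isPGroup'
        exact Nat.eq_one_of_dvd_coprimes ((Nat.coprime_two_left.2 hkodd).pow_left e)
          (he ▸ orderOf_dvd_natCard (P : Subgroup X) hkP) dvd_rfl
      rw [this]
      exact one_mem _
    have hPB : ((P : Subgroup X) : Set X) ⊆ (B' : Set X) ∪ (fun b => a * b) '' (B' : Set X) := by
      have ha2 : a * a = 1 := hexp a ha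
      let T : Subgroup X :=
        { carrier := {x | x ∈ (P : Subgroup X) ∧ (x ∈ B' ∨ a * x ∈ B')}
          one_mem' := ⟨one_mem _, Or.inl (one_mem _)⟩
          mul_mem' := by
            rintro x y ⟨hxP, hx⟩ ⟨hyP, hy⟩
            refine ⟨mul_mem hxP hyP, ?_⟩
            rcases hx with hx | hx <;> rcases hy with hy | hy
            · exact Or.inl (mul_mem hx hy)
            · refine Or.inr ?_
              rw [show a * (x * y) = x * (a * y) by
                rw [← mul_assoc, hcomm a ha x hxP, mul_assoc]]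
              exact mul_mem hx hy
            · exact Or.inr (mul_assoc a x y ▸ mul_mem hx hy)
            · refine Or.inl ?_
              have h := mul_mem hx hy
              rwa [hcomm a ha x hxP, mul_assoc, ← mul_assoc a a y, ha2, one_mul] at h
          inv_mem' := by
            rintro x ⟨hxP, hx⟩
            rw [inv_eq_of_mul_eq_one_right (hexp x hxP)]
            exact ⟨hxP, hx⟩ }
      have hT : B ⊔ zpowers a ≤ T := sup_le
        (fun b hb => ⟨hBP hb, Or.inl (mem_sup_left (mem_sup_left hb))⟩)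
        (zpowers_le.2 ⟨ha, Or.inr (by rw [ha2]; exact one_mem _)⟩)
      intro x hx
      rw [SetLike.mem_coe, ← haB] at hx
      rcases (hT hx).2 with h | h
      · exact Or.inl h
      · refine Or.inr ⟨a * x, h, ?_⟩
        show a * (a * x) = x
        rw [← mul_assoc, ha2, one_mul]
    have hcard : q ≤ Nat.card B' * 2 := by
      have h1 := (Set.ncard_le_ncard hPB (Set.toFinite _)).trans (Set.ncard_union_le _ _)
      have h2' := Set.ncard_image_le (f := fun b => a * b) (Set.toFinite (B' : Set X))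
      simp only [← Nat.card_coe_set_eq, SetLike.coe_sort_coe] at h1 h2'
      omega
    have hB2 : Nat.card B' * 2 = q := by
      obtain ⟨c, hc⟩ := card_dvd_of_le hB'P
      rcases c with _ | _ | _ | c
      · rw [mul_zero] at hc; exact absurd hc Nat.card_pos.ne'
      · exact absurd (Subgroup.eq_of_le_of_card_ge hB'P (by rw [hc, zero_add, mul_one])) hB'eq
      · exact hc.symm
      · have : 0 < Nat.card B' := Nat.card_pos
        rw [← hqdef] at hc
        nlinarith
    exact hplane B' hB'P (le_trans le_sup_right le_sup_left) hB2 z₀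
      (mem_sup_right (mem_zpowers z₀)) hz₀R k hkB' hkodd
  -- the kernel is two-nilpotent
  set W := (P : Subgroup X) ⊓ Kx with hW
  obtain ⟨S, hS⟩ := SylowNumber.exists_sylow_inf P Kx
  have hWcomm : ∀ n ∈ Kx, n ∈ normalizer (W : Set X) → ∀ b ∈ W, b * n = n * b := by
    intro n hnK hnW b hb
    by_cases hWR : W ≤ R
    · exact (mem_center_iff.1 (hRc (hWR hb)) n).symm
    obtain ⟨z₁, hz₁W, hz₁R⟩ := Set.not_subset.1 hWR
    set C := centralizer (W : Set X) with hC
    have hPC : (P : Subgroup X) ≤ C := fun a ha =>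
      mem_centralizer_iff.2 fun b hb => hcomm b hb.1 a ha
    have hnP : (n • P : Sylow 2 X) ≤ C := by
      intro a ha
      rw [Sylow.smul_def, Sylow.pointwise_smul_def,
        Subgroup.mem_pointwise_smul_iff_inv_smul_mem, ← map_inv, MulAut.smul_def,
        MulAut.conj_apply] at ha
      rw [hC, mem_centralizer_iff]
      intro c hc
      have h := mem_centralizer_iff.1 (hPC ha) _ ((mem_normalizer_iff.1 (inv_mem hnW) c).1 hc)
      calc c * a = n * ((n⁻¹ * c * n⁻¹⁻¹) * (n⁻¹ * a * n⁻¹⁻¹)) * n⁻¹ := by group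
        _ = n * ((n⁻¹ * a * n⁻¹⁻¹) * (n⁻¹ * c * n⁻¹⁻¹)) * n⁻¹ := by rw [h]
        _ = a * c := by group
    obtain ⟨c, hc⟩ := MulAction.exists_smul_eq C ((n • P).subtype hnP) (P.subtype hPC)
    rw [Sylow.smul_subtype] at hc
    have h1 := Sylow.subtype_injective hc
    have h2' : ((c : X) * n) • P = P := by rw [mul_smul]; exact h1
    have hcn := Sylow.smul_eq_iff_mem_normalizer.mp h2'
    obtain ⟨K, hK, hKodd, hKP⟩ := exists_oddPart _ (h2 z₁ hz₁W.1 hz₁R)
    have hPC1 : (P : Subgroup X) ≤ centralizer ({z₁} : Set X) := fun a ha =>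
      mem_centralizer_singleton_iff.2 (hcomm a ha z₁ hz₁W.1)
    have hPK' : (P : Subgroup X) ≤ normalizer (K : Set X) := by
      intro a ha
      rw [mem_normalizer_iff]
      intro b
      rw [hK, hK, ← MulAut.conj_apply, MulEquiv.orderOf_eq]
      refine and_congr_left' ⟨fun h => mul_mem (mul_mem (hPC1 ha) h) (inv_mem (hPC1 ha)), fun h => ?_⟩
      have h' := mul_mem (mul_mem (inv_mem (hPC1 ha)) h) (hPC1 ha)
      simpa [mul_assoc] using h'
    have hcz : (c : X) ∈ centralizer ({z₁} : Set X) :=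
      centralizer_le (Set.singleton_subset_iff.2 hz₁W) c.2
    have hcmem := hKP (P : Subgroup X) hPC1 (factorization_eq_of_le P hPC1) hcz
    rw [sup_comm, ← SetLike.mem_coe, Subgroup.coe_mul_of_left_le_normalizer_right _ _ hPK'] at hcmem
    obtain ⟨p, hp, k, hk, hpk⟩ := Set.mem_mul.1 hcmem
    have hkK : k ∈ Kx := hker z₁ hz₁W.1 hz₁R k ((hK k).1 hk).1 ((hK k).1 hk).2
    have hkn : k * n ∈ normalizer ((P : Subgroup X) : Set X) := by
      have : k * n = p⁻¹ * ((c : X) * n) := by rw [← hpk]; group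
      rw [this]
      exact mul_mem (inv_mem (le_normalizer hp)) hcn
    have hknP : k * n ∈ (P : Subgroup X) := by
      refine le_of_le_normalizer P (H := Kx ⊓ normalizer ((P : Subgroup X) : Set X)) inf_le_right ?_
        ⟨mul_mem hkK hnK, hkn⟩
      intro h hh r hr hrodd hhr
      obtain ⟨z₂, hz₂, hz₂W⟩ : ∃ z₂ ∈ (P : Subgroup X), z₂ ∉ Kx := by
        by_contra! hall
        exact hPK hall
      -- the coset of the kernel part is invariant
      let α := {x : X // x ∈ (P : Subgroup X) ∧ z₂ * x ∈ Kx}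
      have hinvar : ∀ i : zpowers h, ∀ x : α,
          (i : X) * x * (i : X)⁻¹ ∈ (P : Subgroup X) ∧ z₂ * ((i : X) * x * (i : X)⁻¹) ∈ Kx := by
        intro i x
        have hiK : (i : X) ∈ Kx := zpowers_le.2 hh.1 i.2
        have hiN : (i : X) ∈ normalizer ((P : Subgroup X) : Set X) := zpowers_le.2 hh.2 i.2
        refine ⟨(mem_normalizer_iff.1 hiN _).1 x.2.1, ?_⟩
        have hKn : Kx.Normal := inferInstance
        have e : z₂ * ((i : X) * x * (i : X)⁻¹) =
            (z₂ * (i : X) * z₂⁻¹) * (z₂ * x) * (i : X)⁻¹ := by group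
        rw [e]
        exact mul_mem (mul_mem (hKn.conj_mem _ hiK z₂) x.2.2) (inv_mem hiK)
      letI : MulAction (zpowers h) α :=
        { smul := fun i x => ⟨(i : X) * x * (i : X)⁻¹, hinvar i x⟩
          one_smul := fun x => Subtype.ext (show (1 : X) * x * (1 : X)⁻¹ = x by group)
          mul_smul := fun i j x => Subtype.ext (show (i : X) * j * x * ((i : X) * j)⁻¹ =
            (i : X) * ((j : X) * x * (j : X)⁻¹) * (i : X)⁻¹ by group) }
      have := Fact.mk hr
      have hrp : IsPGroup r (zpowers h) := IsPGroup.of_card (n := 1) (by rw [Nat.card_zpowers, hhr, pow_one])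
      have hcardα : Nat.card α = Nat.card W := by
        refine Nat.card_congr
          { toFun := fun x => ⟨z₂ * x, ⟨mul_mem hz₂ x.2.1, x.2.2⟩⟩
            invFun := fun w => ⟨z₂ * w, mul_mem hz₂ w.2.1, by
              rw [← mul_assoc, hexp z₂ hz₂, one_mul]; exact w.2.2⟩
            left_inv := fun x => Subtype.ext (by
              show z₂ * (z₂ * (x : X)) = x
              rw [← mul_assoc, hexp z₂ hz₂, one_mul])
            right_inv := fun w => Subtype.ext (by
              show z₂ * (z₂ * (w : X)) = w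
              rw [← mul_assoc, hexp z₂ hz₂, one_mul]) }
      have hr2 : ¬ r ∣ Nat.card α := by
        intro hdvd
        obtain ⟨e, he⟩ := IsPGroup.iff_card.1 (P.isPGroup'.to_le (inf_le_left : W ≤ P))
        rw [hcardα, he] at hdvd
        have := (Nat.prime_dvd_prime_iff_eq hr Nat.prime_two).1 (hr.dvd_of_dvd_pow hdvd)
        rw [this] at hrodd
        exact absurd hrodd (by decide)
      obtain ⟨x, hx⟩ := hrp.nonempty_fixed_point_of_prime_not_dvd_card α hr2
      have hxh : h * (x : X) = (x : X) * h :=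
        mul_inv_eq_iff_eq_mul.1 (congrArg Subtype.val (hx ⟨h, mem_zpowers h⟩))
      have hxR : (x : X) ∉ R := fun hxR => hz₂W (by
        have := mul_mem x.2.2 (inv_mem (show (x : X) ∈ Kx from (Char.mem_kerSubgroup _).2 (hξR _ hxR)))
        rwa [mul_inv_cancel_right] at this)
      obtain ⟨Kx', hKx', hKx'odd, -⟩ := exists_oddPart _ (h2 _ x.2.1 hxR)
      have hPCx : (P : Subgroup X) ≤ centralizer ({(x : X)} : Set X) := fun a ha =>
        mem_centralizer_singleton_iff.2 (hcomm a ha _ x.2.1)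
      have hhC := commute_of_mem_oddPart P hKx' hKx'odd hPCx
        ((hKx' h).2 ⟨mem_centralizer_singleton_iff.2 hxh, hhr ▸ hrodd⟩) hh.2
      obtain ⟨e, he⟩ := IsPGroup.iff_card.1 P.isPGroup'
      have h5 := Nat.eq_one_of_dvd_coprimes ((Nat.coprime_two_left.2 hrodd).pow_left e)
        (he ▸ orderOf_dvd_natCard (P : Subgroup X) (hCP hhC)) hhr.dvd
      rw [hhr] at h5
      exact hr.ne_one h5
    have hkC : k ∈ C := by
      have : k = p⁻¹ * (c : X) := by rw [← hpk]; group
      rw [this]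
      exact mul_mem (inv_mem (hPC hp)) c.2
    have hnC : n ∈ C := by
      have : n = k⁻¹ * (k * n) := by group
      rw [this]
      exact mul_mem (inv_mem hkC) (hPC hknP)
    exact mem_centralizer_iff.1 hnC b hb
  have h2K : Cfsg.HasNormalPComplement 2 Kx := by
    refine Fusion.hasNormalPComplement_of_normalizer_le_centralizer (P := S) ?_
    intro n hn
    change n ∈ normalizer (((S : Sylow 2 Kx) : Subgroup Kx) : Set Kx) at hn
    show n ∈ centralizer (((S : Sylow 2 Kx) : Subgroup Kx) : Set Kx)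
    rw [hS] at hn ⊢
    rw [← subgroupOf_normalizer_eq inf_le_right] at hn
    exact mem_centralizer_iff.2 fun b hb =>
      Subtype.ext (hWcomm n n.2 hn b (mem_subgroupOf.1 hb))
  obtain ⟨K, hK, hKodd, -⟩ := exists_oddPart Kx h2K
  have hKn : K.Normal := ⟨fun a ha g => by
    obtain ⟨haK, hao⟩ := (hK a).1 ha
    exact (hK _).2 ⟨(inferInstance : Kx.Normal).conj_mem a haK g,
      by rwa [← MulAut.conj_apply, MulEquiv.orderOf_eq]⟩⟩
  have hle : K ≤ Cfsg.oddCore X := le_sSup ⟨hKn, Nat.coprime_two_right.2 hKodd⟩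
  exact hle ((hK y).2 ⟨hker z hz hzR y hy hyodd, hyodd⟩)

end Cfsg.Agent.EqualDrop
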