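import Cfsg.Agent.EqualDrop.Basic
import Cfsg.Agent.SL2Class.Classes
import Cfsg.Agent.Classical.LinearBasic

/-!
# The special linear groups in characteristic two

The difference of the degree and of the value at an involution of a nontrivial irreducible
character is the order of the field.
-/

set_option autoImplicit false

namespace Cfsg.Agent.EqualDrop

open scoped ComplexConjugate
open scoped _root_.Classical
open Cfsg Cfsg.Agent Cfsg.Agent.Blocks Subgroup

universe u

variable {Q : Type u} [Group Q] [Fintype Q]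

/-- An irreducible character of a simple group taking its degree at a nontrivial element is trivial. -/
theorem eq_one_of_kernel [IsSimpleGroup Q] (χ : IrrCharacter Q) {s : Q} (hs : s ≠ 1)
    (h : (χ : Q → ℂ) s = (χ : Q → ℂ) 1) : (χ : Q → ℂ) = fun _ => 1 := by
  have hc := Char.IsIrr.isCharacter χ.2
  let K : Subgroup Q :=
    { carrier := {x | ∀ y, (χ : Q → ℂ) (x * y) = (χ : Q → ℂ) y}
      one_mem' := fun y => by rw [one_mul]
      mul_mem' := fun {a b} ha hb y => by rw [mul_assoc, ha, hb]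
      inv_mem' := fun {a} ha y => by rw [← ha (a⁻¹ * y), mul_inv_cancel_left] }
  have hKn : K.Normal := ⟨fun x hx w y => by
    rw [show w * x * w⁻¹ * y = w * (x * (w⁻¹ * y * w)) * w⁻¹ by group,
      Char.isClassFunction_of_isIrr χ.2, hx,
      show w⁻¹ * y * w = w⁻¹ * y * w⁻¹⁻¹ by rw [inv_inv],
      Char.isClassFunction_of_isIrr χ.2]⟩
  have htop : K = ⊤ := (IsSimpleGroup.eq_bot_or_eq_top_of_normal K hKn).resolve_left fun e =>
    hs (mem_bot.1 (e ▸ (fun y => Char.IsChar.mul_left_of_mem_kernel hc h y : s ∈ K)))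
  have hconst : ∀ x, (χ : Q → ℂ) x = (χ : Q → ℂ) 1 := fun x => by
    have hx : x ∈ K := htop ▸ mem_top x
    simpa using hx 1
  obtain ⟨d, hd0, hd, -⟩ := exists_degree χ
  have h1 := Char.classInner_irr_self χ.2
  simp only [Cfsg.classInner, hconst, hd, Finset.sum_const, Finset.card_univ, Complex.conj_natCast,
    ← Nat.card_eq_fintype_card, nsmul_eq_mul] at h1
  rw [← mul_assoc, inv_mul_cancel₀ (Nat.cast_ne_zero.2 Nat.card_pos.ne'), one_mul] at h1
  have h2 : d * d = 1 := by exact_mod_cast h1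
  funext x
  rw [hconst x, hd, Nat.eq_one_of_mul_eq_one_right h2, Nat.cast_one]

/-- The drop at involutions from the class data. -/
theorem drop_of_facts [IsSimpleGroup Q] {q n : ℕ} (hq : q = 2 ^ n) (hn : 1 ≤ n)
    (hcard : Nat.card Q = q * (q ^ 2 - 1))
    (hexp : ∀ x : Q, (∃ k, orderOf x = 2 ^ k) → x * x = 1)
    (hconj : ∀ a b : Q, orderOf a = 2 → orderOf b = 2 → IsConj a b)
    (hcent : ∀ a : Q, orderOf a = 2 → Nat.card (centralizer ({a} : Set Q)) = q)
    (hcls : q + 1 ≤ Nat.card (ConjClasses Q))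
    (χ : IrrCharacter Q) (hχ : (χ : Q → ℂ) ≠ fun _ => 1) {s : Q} (hs : orderOf s = 2) :
    (χ : Q → ℂ) 1 - (χ : Q → ℂ) s = q := by
  have : Fact (Nat.Prime 2) := ⟨Nat.prime_two⟩
  have hs1 : s ≠ 1 := fun e => by rw [e, orderOf_one] at hs; omega
  have hq2 : 2 ≤ q := hq ▸ Nat.le_self_pow (by omega) 2
  obtain ⟨P, hP⟩ := (IsPGroup.of_card (n := 1) (by rw [Nat.card_zpowers, hs, pow_one]) :
    IsPGroup 2 (zpowers s)).exists_le_sylow
  have hPs : s ∈ (P : Subgroup Q) := hP (mem_zpowers s)
  have hPq : Nat.card (P : Subgroup Q) = q := by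
    have hne : q ^ 2 - 1 ≠ 0 := by
      have := Nat.pow_le_pow_left hq2 2
      omega
    have hodd : ¬ 2 ∣ q ^ 2 - 1 := by
      have h1 : 2 ∣ q ^ 2 := dvd_pow (hq ▸ dvd_pow_self 2 (by omega)) two_ne_zero
      have := Nat.pow_le_pow_left hq2 2
      omega
    rw [P.card_eq_multiplicity, hcard, Nat.factorization_mul (by omega) hne, Finsupp.add_apply,
      Nat.factorization_eq_zero_of_not_dvd hodd, add_zero, hq,
      Nat.Prime.factorization_pow Nat.prime_two, Finsupp.single_eq_same]
  have hexpP : ∀ x ∈ (P : Subgroup Q), x * x = 1 := fun x hx =>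
    hexp x ((IsPGroup.iff_orderOf.1 P.isPGroup') ⟨x, hx⟩ |>.imp fun k hk => by
      rw [← hk, Subgroup.orderOf_mk])
  -- the drops are multiples of the Sylow order
  have hmult : ∀ ψ : IrrCharacter Q, ∃ m : ℤ,
      (ψ : Q → ℂ) 1 - (ψ : Q → ℂ) s = (q : ℂ) * m := by
    intro ψ
    obtain ⟨d, -, hd, -⟩ := exists_degree ψ
    obtain ⟨f, hf⟩ := exists_sum_eq (Char.IsIrr.isCharacter ψ.2) (P : Subgroup Q)
    rw [← Finset.add_sum_erase _ _ (Finset.mem_univ (1 : (P : Subgroup Q))),
      Finset.sum_congr rfl (fun (p : (P : Subgroup Q)) hp => (Char.classFun_isConj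
        (Char.isClassFunction_of_isIrr ψ.2) (hconj s p hs (orderOf_eq_prime
          (by rw [pow_two]; exact hexpP p p.2)
          fun e => (Finset.mem_erase.1 hp).1 (Subtype.ext e)))).symm),
      Finset.sum_const, Finset.card_erase_of_mem (Finset.mem_univ _), Finset.card_univ,
      ← Nat.card_eq_fintype_card, hPq, OneMemClass.coe_one, nsmul_eq_mul,
      Nat.cast_sub (show 1 ≤ q by omega), Nat.cast_one] at hf
    have hq1 : ((q : ℂ) - 1) ≠ 0 := sub_ne_zero.2 (by exact_mod_cast (show q ≠ 1 by omega))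
    rw [hd] at hf
    have hrat : (ψ : Q → ℂ) s = ((((q : ℚ) * f - d) / ((q : ℚ) - 1) : ℚ) : ℂ) := by
      push_cast
      rw [eq_div_iff hq1]
      linear_combination hf
    obtain ⟨e, he⟩ := Blocks.exists_int_of_isIntegral_rat
      (Char.IsChar.isIntegral (Char.IsIrr.isCharacter ψ.2) s) _ hrat
    refine ⟨(f : ℤ) - e, ?_⟩
    rw [he] at hf
    rw [hd, he]
    push_cast
    linear_combination hf
  choose m hm using hmult
  have hval : ∀ ψ : IrrCharacter Q, (ψ : Q → ℂ) s = (ψ : Q → ℂ) 1 - (q : ℂ) * m ψ := fun ψ => by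
    rw [← hm ψ]; ring
  have h1 := Char.second_orthogonality (1 : Q) s
  have h2 := Char.second_orthogonality s s
  have h3 := Char.sum_sq_degree (G := Q)
  rw [if_neg (by rw [isConj_one_right]; exact hs1)] at h1
  rw [if_pos (IsConj.refl s), hcent s hs] at h2
  simp only [hval, degree_eq, map_sub, map_mul, Complex.conj_natCast, map_intCast, mul_sub, sub_mul,
    Finset.sum_sub_distrib] at h1 h2
  simp only [degree_eq, pow_two] at h3
  have hsum : (q : ℂ) ^ 2 * ((∑ ψ : IrrCharacter Q, m ψ ^ 2 : ℤ) : ℂ) = (q : ℂ) ^ 3 := by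
    have e : ∑ ψ : IrrCharacter Q, (q : ℂ) * m ψ * ((q : ℂ) * m ψ) =
        (q : ℂ) ^ 2 * ((∑ ψ : IrrCharacter Q, m ψ ^ 2 : ℤ) : ℂ) := by
      push_cast
      rw [Finset.mul_sum]
      exact Finset.sum_congr rfl fun ψ _ => by ring
    have e2 : ∑ ψ : IrrCharacter Q, (q : ℂ) * m ψ * (charDegree (ψ : Q → ℂ) : ℂ) =
        ∑ ψ : IrrCharacter Q, (charDegree (ψ : Q → ℂ) : ℂ) * ((q : ℂ) * m ψ) :=
      Finset.sum_congr rfl fun ψ _ => mul_comm _ _
    rw [e, e2] at h2
    have hQ : (Nat.card Q : ℂ) = (q : ℂ) ^ 3 - q := by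
      rw [hcard, Nat.cast_mul, Nat.cast_sub (Nat.one_le_pow _ _ (by omega))]
      push_cast; ring
    rw [hQ] at h3
    linear_combination h2 - 2 * h1 + h3
  have hsum' : ∑ ψ : IrrCharacter Q, m ψ ^ 2 = (q : ℤ) := by
    have hq0 : (q : ℂ) ^ 2 ≠ 0 := pow_ne_zero _ (Nat.cast_ne_zero.2 (by omega))
    have h := mul_left_cancel₀ hq0 (hsum.trans (pow_succ (q : ℂ) 2))
    exact_mod_cast h
  have hne : ∀ ψ : IrrCharacter Q, (ψ : Q → ℂ) ≠ (fun _ => 1) → 1 ≤ m ψ ^ 2 := fun ψ hψ => by
    have hm0 : m ψ ≠ 0 := fun e => hψ (eq_one_of_kernel ψ hs1 (by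
      rw [hval ψ, e, Int.cast_zero, mul_zero, sub_zero]))
    have := sq_pos_of_ne_zero hm0
    omega
  have hcnt : (q : ℤ) ≤ ((Finset.univ.erase (triv Q)).card : ℤ) := by
    rw [Finset.card_erase_of_mem (Finset.mem_univ _), Finset.card_univ, ← Nat.card_eq_fintype_card,
      Char.card_irrCharacter]
    omega
  have hne' : ∀ ψ ∈ Finset.univ.erase (triv Q), 1 ≤ m ψ ^ 2 := fun ψ hψ =>
    hne ψ fun e => (Finset.mem_erase.1 hψ).1 (Subtype.ext e)
  have hle : ∀ ψ ∈ Finset.univ.erase (triv Q), m ψ ^ 2 ≤ 1 := by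
    intro ψ hψ
    by_contra hgt
    have h := Finset.card_nsmul_le_sum ((Finset.univ.erase (triv Q)).erase ψ) (fun φ => m φ ^ 2) 1
      fun φ hφ => hne' φ (Finset.mem_of_mem_erase hφ)
    rw [Finset.card_erase_of_mem hψ, nsmul_eq_mul, mul_one] at h
    have e1 := Finset.add_sum_erase _ (fun φ => m φ ^ 2) hψ
    have e2 := Finset.add_sum_erase _ (fun φ => m φ ^ 2) (Finset.mem_univ (triv Q))
    have h0 := sq_nonneg (m (triv Q))
    have hpos : 1 ≤ (Finset.univ.erase (triv Q)).card := Finset.card_pos.2 ⟨ψ, hψ⟩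
    rw [Nat.cast_sub hpos] at h
    push_cast at h
    omega
  have hmem : χ ∈ Finset.univ.erase (triv Q) :=
    Finset.mem_erase.2 ⟨fun e => hχ (congrArg Subtype.val e), Finset.mem_univ _⟩
  have hsq : m χ ^ 2 = 1 := le_antisymm (hle χ hmem) (hne' χ hmem)
  rw [hm χ]
  rcases sq_eq_one_iff.1 hsq with h | h
  · rw [h, Int.cast_one, mul_one]
  · exfalso
    have hn := Char.IsChar.norm_le (Char.IsIrr.isCharacter χ.2) s
    rw [hval χ, h, degree_eq, Complex.natCast_re] at hn
    rw [show (charDegree (χ : Q → ℂ) : ℂ) - (q : ℂ) * ((-1 : ℤ) : ℂ) =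
      ((charDegree (χ : Q → ℂ) + q : ℕ) : ℂ) by push_cast; ring, Complex.norm_natCast] at hn
    have : charDegree (χ : Q → ℂ) + q ≤ charDegree (χ : Q → ℂ) := by exact_mod_cast hn
    omega

section Linear

variable {F : Type} [Field F] [Fintype F]

local notation "SG" => Matrix.SpecialLinearGroup (Fin 2) F

omit [Fintype F] in
open SL2Class in
theorem sl2_sq_eq_one (h2 : (2 : F) = 0) {x : SG} (hx : ∃ k, orderOf x = 2 ^ k) : x * x = 1 := by
  obtain ⟨k, hk⟩ := hx
  have htr : ∀ g : SG, tr (g * g) = tr g * tr g := fun g => by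
    have hm : ∀ i j, ((g * g : SG) : Matrix (Fin 2) (Fin 2) F) i j =
        lin g (-1) (tr g) i j := fun i j => by rw [Matrix.SpecialLinearGroup.coe_mul, g_sq]
    simp only [tr, hm, lin_apply, Matrix.one_apply_eq]
    linear_combination -h2
  have hpow : ∀ j : ℕ, tr (x ^ 2 ^ j) = tr x ^ 2 ^ j := by
    intro j
    induction j with
    | zero => simp
    | succ j ih => rw [pow_succ 2 j, pow_mul, pow_two, htr, ih, ← pow_two, ← pow_mul]
  have h0 : tr x = 0 := by
    have h := hpow k
    rw [← hk, pow_orderOf_eq_one] at h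
    refine pow_eq_zero_iff (by rw [hk]; positivity : orderOf x ≠ 0) |>.1 ?_
    rw [← h]
    simp only [tr, Matrix.SpecialLinearGroup.coe_one, Matrix.one_apply_eq]
    linear_combination h2
  refine Subtype.ext ?_
  rw [Matrix.SpecialLinearGroup.coe_mul, g_sq, h0, Matrix.SpecialLinearGroup.coe_one]
  ext i j
  rw [lin_apply, zero_mul, add_zero]
  linear_combination -((1 : Matrix (Fin 2) (Fin 2) F) i j) * h2

open SL2Class in
/-- The drop at involutions for a group isomorphic to a special linear group of degree two. -/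
theorem drop_of_psl {n : ℕ} (hn : 2 ≤ n) (hF : Fintype.card F = 2 ^ n)
    (e : Q ≃* Matrix.ProjectiveSpecialLinearGroup (Fin 2) F) (χ : IrrCharacter Q)
    (hχ : (χ : Q → ℂ) ≠ fun _ => 1) {s : Q} (hs : orderOf s = 2) :
    (χ : Q → ℂ) 1 - (χ : Q → ℂ) s = (2 : ℂ) ^ n := by
  have : Fact (Nat.Prime 2) := ⟨Nat.prime_two⟩
  have h2 : (2 : F) = 0 := by
    have h := FiniteField.cast_card_eq_zero F
    rw [hF] at h
    push_cast at h
    exact pow_eq_zero_iff (by omega : n ≠ 0) |>.1 h
  have : CharP F 2 := CharTwo.of_one_ne_zero_of_two_eq_zero one_ne_zero h2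
  obtain ⟨x, hx0, hx1⟩ : ∃ x : F, x ≠ 0 ∧ x ≠ 1 := by
    have h4 : 4 ≤ Fintype.card F := hF ▸ Nat.pow_le_pow_right two_pos hn
    by_contra! hcon
    have : Finset.univ ⊆ ({0, 1} : Finset F) := fun y _ => by
      by_cases hy : y = 0
      · simp [hy]
      · simp [hcon y hy]
    have := Finset.card_le_card this
    rw [Finset.card_univ] at this
    have := Finset.card_le_two (a := (0 : F)) (b := 1)
    omega
  have hsimp := Classical.isSimpleGroup_psl (ι := Fin 2) (F := F) (Or.inr ⟨by simp, x, hx0,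
    fun h => hx1 (sub_eq_zero.1 (mul_self_eq_zero.1
      (by linear_combination h + (1 - x) * h2)))⟩)
  have : IsSimpleGroup Q := e.isSimpleGroup
  let f : Q ≃* SG := e.trans
    ((QuotientGroup.quotientMulEquivOfEq (center_eq_bot h2)).trans QuotientGroup.quotientBot)
  have hinv : ∀ a : Q, orderOf a = 2 → NonScalar (f a) ∧ tr (f a) = 0 := fun a ha => by
    have h := tr_of_orderOf (F := F) 2 (g := f a) (by rw [MulEquiv.orderOf_eq, ha])
    exact ⟨h.1, h.2.trans h2⟩
  have key := drop_of_facts (Q := Q) (q := 2 ^ n) rfl (by omega)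
    (by rw [Nat.card_congr f.toEquiv, card_sl, hF])
    (fun a ha => f.injective (by
      rw [map_mul, map_one]
      exact sl2_sq_eq_one h2 (by simpa only [MulEquiv.orderOf_eq] using ha)))
    (fun a b ha hb => by
      obtain ⟨c, hc⟩ := isConj_iff.1 (isConj_of_tr (hinv a ha).1 (hinv b hb).1
        ((hinv a ha).2.trans (hinv b hb).2.symm) (Or.inr h2))
      exact isConj_iff.2 ⟨f.symm c, f.injective (by simp [hc])⟩)
    (fun a ha => by
      rw [← hF, ← card_cent_double_even h2 (hinv a ha).1 (hinv a ha).2]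
      refine Nat.card_congr (f.toEquiv.subtypeEquiv fun c => ?_)
      rw [mem_centralizer_singleton_iff, mem_centralizer_singleton_iff]
      show c * a = a * c ↔ f c * f a = f a * f c
      rw [← map_mul, ← map_mul]
      exact f.injective.eq_iff.symm)
    (by
      let cl : Option F → ConjClasses Q := fun o =>
        ConjClasses.mk (f.symm (o.elim 1 comp))
      have hinj : Function.Injective cl := by
        intro a b hab
        obtain ⟨c, hc⟩ := isConj_iff.1 (ConjClasses.mk_eq_mk_iff_isConj.1 hab)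
        have hab' : IsConj (a.elim 1 comp : SG) (b.elim 1 comp) :=
          isConj_iff.2 ⟨f c, f.symm.injective (by simpa using hc)⟩
        rcases a with _ | a <;> rcases b with _ | b
        · rfl
        · exact absurd (isConj_one_right.1 hab') (ne_one_of_nonScalar (nonScalar_comp b))
        · exact absurd (isConj_one_left.1 hab') (ne_one_of_nonScalar (nonScalar_comp a))
        · exact congrArg some (by simpa using tr_eq_of_isConj hab')
      have : Finite (ConjClasses Q) := Quotient.finite _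
      have h := Nat.card_le_card_of_injective cl hinj
      rw [Nat.card_eq_fintype_card, Fintype.card_option, hF] at h
      exact h)
    χ hχ hs
  push_cast at key
  exact key

end Linear

end Cfsg.Agent.EqualDrop
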